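import Mathlib
import Cfsg.Prelude.Def_Classical
import Cfsg.Prelude.Def_KGroupFacts
import Cfsg.Prelude.Def_Local
import Cfsg.Prelude.Def_Transfer
import Cfsg.Agent.Helper1.Fitting
import Cfsg.Agent.Helper2.Layer3
import Cfsg.Agent.Helper3.ExtraCore
import Cfsg.Agent.Helper4.ExOutMain
import Cfsg.Agent.Helper9.MonsterType.BabyBuild

/-!
Centralizers of involutions with an extraspecial normal subgroup of plus type that is its own
centralizer: the quotient embeds in the orthogonal group, and it is the commutator subgroup of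
the orthogonal group as soon as its order is large enough.
-/

set_option autoImplicit false

namespace Cfsg.Agent.Helper9.Co1Z

open Cfsg

/-- A subgroup of small index contains every normal simple subgroup of large order. -/
theorem le_of_index_le {O : Type*} [Group O] [Finite O] (Ω H : Subgroup O) [hΩn : Ω.Normal]
    (hs : IsSimpleGroup ↥Ω) (k : ℕ) (hk : k.factorial < Nat.card ↥Ω) (hH : H.index ≤ k) :
    Ω ≤ H := by
  have hMn : (H.normalCore.subgroupOf Ω).Normal := inferInstance
  rcases hs.eq_bot_or_eq_top_of_normal _ hMn with h | h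
  · exfalso
    let ψ : ↥Ω →* Equiv.Perm (O ⧸ H) := (MulAction.toPermHom O (O ⧸ H)).comp Ω.subtype
    have hker : ψ.ker = ⊥ := by
      rw [← h, Subgroup.normalCore_eq_ker]
      rfl
    have hinj : Function.Injective ψ := (MonoidHom.ker_eq_bot_iff ψ).mp hker
    have h1 := Nat.card_le_card_of_injective ψ hinj
    rw [Nat.card_perm] at h1
    have h2 : Nat.card (O ⧸ H) = H.index := rfl
    rw [h2] at h1
    have h3 := Nat.factorial_le hH
    omega
  · have := Subgroup.subgroupOf_eq_top.mp h
    exact this.trans (Subgroup.normalCore_le H)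

section core

variable {C : Type*} [Group C] (Q : Subgroup C) [hQn : Q.Normal]

/-- the action of `C` on the normal subgroup `Q` modulo inner automorphisms. -/
noncomputable def outHom : C →* Out ↥Q :=
  (QuotientGroup.mk' (Inn ↥Q)).comp (MulAut.conjNormal : C →* MulAut ↥Q)

theorem outHom_ker (hselfC : ∀ c : C, (∀ r ∈ Q, c * r = r * c) → c ∈ Q) :
    (outHom Q).ker = Q := by
  ext c
  rw [MonoidHom.mem_ker]
  unfold outHom
  rw [MonoidHom.comp_apply, QuotientGroup.mk'_apply, QuotientGroup.eq_one_iff]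
  constructor
  · rintro ⟨q, hq⟩
    have h1 : (q : C)⁻¹ * c ∈ Q := by
      apply hselfC
      intro r hr
      have h2 := congrArg (fun φ : MulAut ↥Q => ((φ ⟨r, hr⟩ : ↥Q) : C)) hq
      simp only [MulAut.conj_apply, MulAut.conjNormal_apply, Subgroup.coe_mul,
        Subgroup.coe_inv] at h2
      calc (q : C)⁻¹ * c * r = (q : C)⁻¹ * (c * r * c⁻¹) * c := by group
        _ = (q : C)⁻¹ * ((q : C) * r * (q : C)⁻¹) * c := by rw [h2]
        _ = r * ((q : C)⁻¹ * c) := by group
    have := Q.mul_mem q.2 h1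
    rwa [mul_inv_cancel_left] at this
  · intro hc
    refine ⟨⟨c, hc⟩, ?_⟩
    ext r
    simp [MulAut.conj_apply, MulAut.conjNormal_apply]

end core

/-- The core of the argument, for a finite group `C` with a normal subgroup `Q`. -/
theorem core {C : Type*} [Group C] [Finite C] (Q : Subgroup C) [hQn : Q.Normal] (w : ℕ)
    (hw : 1 ≤ w) (z : C) (hz2 : z * z = 1) (hz1 : z ≠ 1) (hzQ : z ∈ Q)
    (hzc : ∀ b ∈ Q, z * b = b * z)
    (hcen : ∀ a ∈ Q, (∀ b ∈ Q, a * b = b * a) → a = 1 ∨ a = z)
    (hcomm : ∀ a ∈ Q, ∀ b ∈ Q, a * b * a⁻¹ * b⁻¹ = 1 ∨ a * b * a⁻¹ * b⁻¹ = z)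
    (hsq : ∀ a ∈ Q, a * a = 1 ∨ a * a = z)
    (hcard : Nat.card Q = 2 ^ (2 * w + 1))
    (hselfC : ∀ c : C, (∀ r ∈ Q, c * r = r * c) → c ∈ Q)
    (A : Subgroup C) (hAQ : A ≤ Q) (hAc : ∀ a ∈ A, ∀ b ∈ A, a * b = b * a)
    (hA2 : ∀ a ∈ A, a * a = 1) (hAcard : Nat.card A = 2 ^ (w + 1))
    (hΩs : IsSimpleGroup ↥(Omega (ZMod 2) (quadFormPlus w (ZMod 2))))
    (hΩc : ¬ (Nat.card ↥(Omega (ZMod 2) (quadFormPlus w (ZMod 2)))).Prime)
    (hidx : (Omega (ZMod 2) (quadFormPlus w (ZMod 2))).index = 2)
    (k : ℕ) (hk : k.factorial < Nat.card ↥(Omega (ZMod 2) (quadFormPlus w (ZMod 2))))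
    (hnum : ∀ n : ℕ, n ∣ Nat.card ↥(isometryGroup (ZMod 2) (quadFormPlus w (ZMod 2))) →
      Nat.card C = 2 ^ (2 * w + 1) * n →
      Nat.card ↥(isometryGroup (ZMod 2) (quadFormPlus w (ZMod 2))) ≤ k * n ∧
        n ≠ Nat.card ↥(isometryGroup (ZMod 2) (quadFormPlus w (ZMod 2)))) :
    generalizedFittingSubgroup C = Q ∧ IsExtraspecial 2 ↥Q ∧
      Nonempty (C ⧸ Q ≃* ↥(Omega (ZMod 2) (quadFormPlus w (ZMod 2)))) := by
  classical
  have : Fact (Nat.Prime 2) := ⟨Nat.prime_two⟩
  -- the centre of `Q`
  have hcenQ : ∀ c : ↥Q, c ∈ Subgroup.center ↥Q ↔ (c : C) = 1 ∨ (c : C) = z := by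
    intro c
    constructor
    · intro hcc
      apply hcen _ c.2
      intro r hr
      have := Subgroup.mem_center_iff.mp hcc ⟨r, hr⟩
      have e := congrArg Subtype.val this
      simpa using e.symm
    · intro h
      rw [Subgroup.mem_center_iff]
      intro d
      apply Subtype.ext
      show (d : C) * (c : C) = (c : C) * (d : C)
      rcases h with h | h
      · rw [h, mul_one, one_mul]
      · rw [h]; exact (hzc _ d.2).symm
  have hIn : Cfsg.Agent.Helper3.Extra.InClass 2 ↥Q := by
    refine ⟨?_, ?_, ?_⟩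
    · rw [Nat.card_eq_two_iff]
      refine ⟨⟨1, Subgroup.one_mem _⟩, ⟨⟨z, hzQ⟩, (hcenQ _).mpr (Or.inr rfl)⟩, ?_, ?_⟩
      · intro e
        have e1 := congrArg (fun x : ↥(Subgroup.center ↥Q) => ((x : ↥Q) : C)) e
        exact hz1 e1.symm
      · apply Set.eq_univ_of_forall
        intro x
        rcases (hcenQ x.1).mp x.2 with e | e
        · left
          apply Subtype.ext; apply Subtype.ext
          exact e
        · right
          apply Subtype.ext; apply Subtype.ext
          exact e
    · intro x y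
      rw [hcenQ, commutatorElement_def]
      rcases hcomm _ x.2 _ y.2 with e | e
      · left; simpa using e
      · right; simpa using e
    · intro x
      rw [hcenQ, pow_two]
      rcases hsq _ x.2 with e | e
      · left; simpa using e
      · right; simpa using e
  have hES : IsExtraspecial 2 ↥Q := by
    apply hIn.isExtraspecial
    rw [hcard]
    calc 2 = 2 ^ 1 := by norm_num
      _ < 2 ^ (2 * w + 1) := Nat.pow_lt_pow_right (by norm_num) (by omega)
  -- the outer automorphism group
  have hplus : ∃ A' : Subgroup ↥Q, IsElementaryAbelian 2 A' ∧ Nat.card ↥A' = 2 ^ (w + 1) := by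
    refine ⟨A.subgroupOf Q, ⟨⟨⟨?_⟩⟩, ?_⟩, ?_⟩
    · intro a b
      apply Subtype.ext
      apply Subtype.ext
      exact hAc _ (Subgroup.mem_subgroupOf.mp a.2) _ (Subgroup.mem_subgroupOf.mp b.2)
    · intro a ha
      apply Subtype.ext
      rw [pow_two]
      exact hA2 _ (Subgroup.mem_subgroupOf.mp ha)
    · rw [Nat.card_congr (Subgroup.subgroupOfEquivOfLe hAQ).toEquiv, hAcard]
  obtain ⟨e⟩ := (Cfsg.Agent.Helper4.ExOut.main hES w hw hcard).1 hplus
  let φ : C →* ↥(isometryGroup (ZMod 2) (quadFormPlus w (ZMod 2))) :=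
    e.toMonoidHom.comp (outHom Q)
  have hφker : φ.ker = Q := by
    rw [← outHom_ker Q hselfC]
    ext c
    rw [MonoidHom.mem_ker, MonoidHom.mem_ker]
    show e (outHom Q c) = 1 ↔ _
    rw [MulEquiv.map_eq_one_iff]
  -- the order of the image
  have hcardC : Nat.card C = 2 ^ (2 * w + 1) * Nat.card ↥φ.range := by
    have h1 := Subgroup.card_mul_index φ.ker
    rw [Subgroup.index_ker, hφker, hcard] at h1
    exact h1.symm
  obtain ⟨hle, hne⟩ := hnum (Nat.card ↥φ.range) (Subgroup.card_subgroup_dvd_card _) hcardC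
  have hidxH : φ.range.index ≤ k := by
    have h1 := Subgroup.card_mul_index φ.range
    have hpos : 0 < Nat.card ↥φ.range := Nat.card_pos
    rw [← h1] at hle
    by_contra hcon
    push Not at hcon
    have : k * Nat.card ↥φ.range < Nat.card ↥φ.range * φ.range.index := by
      rw [mul_comm]
      exact Nat.mul_lt_mul_of_pos_left hcon hpos
    omega
  have hΩle : Omega (ZMod 2) (quadFormPlus w (ZMod 2)) ≤ φ.range :=
    le_of_index_le _ _ hΩs k hk hidxH
  have hrange : φ.range = Omega (ZMod 2) (quadFormPlus w (ZMod 2)) := by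
    have h1 := Subgroup.relIndex_mul_index hΩle
    rw [hidx] at h1
    have h2 : φ.range.index ≠ 1 := by
      intro h
      rw [Subgroup.index_eq_one] at h
      apply hne
      rw [h]
      exact Nat.card_congr Subgroup.topEquiv.toEquiv
    have h3 : (Omega (ZMod 2) (quadFormPlus w (ZMod 2))).relIndex φ.range = 1 := by
      have hd : φ.range.index ∣ 2 := Dvd.intro_left _ h1
      rcases (Nat.dvd_prime Nat.prime_two).mp hd with h | h
      · exact absurd h h2
      · rw [h] at h1
        omega
    exact le_antisymm (Subgroup.relIndex_eq_one.mp h3) hΩle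
  have hπs : ∀ x : ↥(Omega (ZMod 2) (quadFormPlus w (ZMod 2))), ∃ c : C, φ c = x := by
    intro x
    have hx : (x : ↥(isometryGroup (ZMod 2) (quadFormPlus w (ZMod 2)))) ∈ φ.range := by
      rw [hrange]; exact x.2
    exact hx
  let iso : C ⧸ Q ≃* ↥(Omega (ZMod 2) (quadFormPlus w (ZMod 2))) :=
    ((QuotientGroup.quotientMulEquivOfEq hφker.symm).trans
      (QuotientGroup.quotientKerEquivRange φ)).trans (MulEquiv.subgroupCongr hrange)
  refine ⟨?_, hES, ⟨iso⟩⟩
  -- the generalized Fitting subgroup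
  apply le_antisymm
  · apply Cfsg.Agent.Helper2.generalizedFittingSubgroup_le_of_centralizer_le
    · have hFn : (Cfsg.fittingSubgroup C).Normal := Cfsg.Agent.Helper1.fittingSubgroup_normal
      have hFnil : Group.IsNilpotent ↥(Cfsg.fittingSubgroup C) :=
        Cfsg.Agent.Helper1.fittingSubgroup_isNilpotent
      let π : C →* ↥(Omega (ZMod 2) (quadFormPlus w (ZMod 2))) :=
        iso.toMonoidHom.comp (QuotientGroup.mk' Q)
      have hπsurj : Function.Surjective π := by
        intro x
        obtain ⟨y, hy⟩ := iso.surjective x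
        obtain ⟨c, rfl⟩ := QuotientGroup.mk'_surjective Q y
        exact ⟨c, hy⟩
      have hπker : π.ker = Q := by
        ext c
        rw [MonoidHom.mem_ker]
        show iso (QuotientGroup.mk' Q c) = 1 ↔ _
        rw [MulEquiv.map_eq_one_iff, QuotientGroup.mk'_apply, QuotientGroup.eq_one_iff]
      have hmn : ((Cfsg.fittingSubgroup C).map π).Normal := hFn.map π hπsurj
      rcases hΩs.eq_bot_or_eq_top_of_normal _ hmn with h | h
      · rw [← hπker]
        intro x hx
        rw [MonoidHom.mem_ker]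
        have : π x ∈ (Cfsg.fittingSubgroup C).map π := ⟨x, hx, rfl⟩
        rw [h, Subgroup.mem_bot] at this
        exact this
      · exfalso
        apply Cfsg.Agent.Helper9.MonsterType.not_nilpotent_of_simple hΩs hΩc
        have h1 : Function.Surjective (π.comp (Cfsg.fittingSubgroup C).subtype) := by
          intro g
          have hg : g ∈ (Cfsg.fittingSubgroup C).map π := by
            rw [h]; exact Subgroup.mem_top _
          obtain ⟨x, hx, rfl⟩ := hg
          exact ⟨⟨x, hx⟩, rfl⟩
        exact Group.nilpotent_of_surjective _ h1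
    · intro c hcc
      apply hselfC
      intro r hr
      exact (Subgroup.mem_centralizer_iff.mp hcc r hr).symm
  · have hnil : Group.IsNilpotent ↥Q := by
      have hp : IsPGroup 2 ↥Q := by
        apply IsPGroup.of_card (n := 2 * w + 1)
        exact hcard
      exact hp.isNilpotent
    exact (Cfsg.Agent.Helper1.le_fittingSubgroup hQn hnil).trans
      Cfsg.Agent.Helper2.fittingSubgroup_le_generalizedFittingSubgroup

end Cfsg.Agent.Helper9.Co1Z
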