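import Mathlib
import Cfsg.Prelude.Def_Sporadic_a
import Cfsg.Prelude.Def_SporadicCombinatorics
import Cfsg.Prelude.Def_Spor_Conway
import Cfsg.Agent.Helper9.Leech.MonoStructC

/-!
The calculus of the monomial automorphisms of the lattice: products, the action on the vectors
with a single non-zero coordinate, and the reconstruction of an automorphism from these images.
-/

set_option autoImplicit false

namespace Cfsg.Agent.Helper9.Co1Z

open Cfsg
open Cfsg.Agent.Helper9.Golay Cfsg.Agent.Helper9.Leech Cfsg.Agent.Helper9.Leech.Mono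
open scoped Pointwise

theorem finite_co0' : Finite ↥Co0 := Nat.finite_of_card_ne_zero (by rw [card_co0]; norm_num)

theorem symmDiff_mem_supports {c d : Finset GolayPt}
    (hc : c ∈ supports (golayCode : Set (GolayPt → ZMod 2)))
    (hd : d ∈ supports (golayCode : Set (GolayPt → ZMod 2))) :
    symmDiff c d ∈ supports (golayCode : Set (GolayPt → ZMod 2)) := by
  refine ⟨indW c + indW d, add_mem (indW_mem hc) (indW_mem hd), ?_⟩
  ext p
  unfold support₂ indW
  simp only [Finset.mem_filter, Finset.mem_univ, true_and, Pi.add_apply, Finset.mem_symmDiff]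
  by_cases h1 : p ∈ c <;> by_cases h2 : p ∈ d <;> simp [h1, h2] <;> decide

theorem co0_ext {g g' : ↥Co0} (h : ∀ v : ↥leechLattice, g • v = g' • v) : g = g' := by
  apply Subtype.ext
  apply Equiv.ext
  exact h

theorem monoEl_smul_coe (σ : Equiv.Perm GolayPt) (hσ : σ ∈ M24) (c : Finset GolayPt)
    (hc : c ∈ supports (golayCode : Set (GolayPt → ZMod 2))) (v : ↥leechLattice) :
    ((monoEl σ hσ c hc • v : ↥leechLattice) : GolayPt → ℤ) = signedPerm σ c v := rfl

theorem monoEl_smul_apply (σ : Equiv.Perm GolayPt) (hσ : σ ∈ M24) (c : Finset GolayPt)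
    (hc : c ∈ supports (golayCode : Set (GolayPt → ZMod 2))) (v : ↥leechLattice) (i : GolayPt) :
    ((monoEl σ hσ c hc • v : ↥leechLattice) : GolayPt → ℤ) i =
      if i ∈ c then -(v : GolayPt → ℤ) (σ⁻¹ i) else (v : GolayPt → ℤ) (σ⁻¹ i) := rfl

theorem mem_smul_iff (σ : Equiv.Perm GolayPt) (d : Finset GolayPt) (i : GolayPt) :
    i ∈ σ • d ↔ σ⁻¹ i ∈ d := by
  rw [← Finset.inv_smul_mem_iff]
  rfl

/-- the product of two monomial automorphisms. -/
theorem monoEl_mul (σ τ : Equiv.Perm GolayPt) (hσ : σ ∈ M24) (hτ : τ ∈ M24)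
    (c d : Finset GolayPt) (hc : c ∈ supports (golayCode : Set (GolayPt → ZMod 2)))
    (hd : d ∈ supports (golayCode : Set (GolayPt → ZMod 2))) :
    monoEl σ hσ c hc * monoEl τ hτ d hd =
      monoEl (σ * τ) (M24.mul_mem hσ hτ) (symmDiff c (σ • d))
        (symmDiff_mem_supports hc (smul_mem_supports hσ hd)) := by
  apply co0_ext
  intro v
  apply Subtype.ext
  funext i
  rw [mul_smul, monoEl_smul_apply, monoEl_smul_apply, monoEl_smul_apply]
  have e : (σ * τ)⁻¹ i = τ⁻¹ (σ⁻¹ i) := by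
    rw [mul_inv_rev]; rfl
  rw [e]
  have e2 : i ∈ symmDiff c (σ • d) ↔ (i ∈ c ∧ σ⁻¹ i ∉ d) ∨ (σ⁻¹ i ∈ d ∧ i ∉ c) := by
    rw [Finset.mem_symmDiff, mem_smul_iff]
  by_cases h1 : i ∈ c <;> by_cases h2 : σ⁻¹ i ∈ d
  · rw [if_pos h1, if_pos h2, if_neg (by rw [e2]; tauto), neg_neg]
  · rw [if_pos h1, if_neg h2, if_pos (by rw [e2]; tauto)]
  · rw [if_neg h1, if_pos h2, if_pos (by rw [e2]; tauto)]
  · rw [if_neg h1, if_neg h2, if_neg (by rw [e2]; tauto)]

theorem monoEl_one_empty :
    monoEl 1 M24.one_mem ∅ Spor.empty_mem_supports_golayCode = 1 :=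
  Subtype.ext monoPerm_one_empty

theorem monoEl_inj {σ σ' : Equiv.Perm GolayPt} {hσ : σ ∈ M24} {hσ' : σ' ∈ M24}
    {c c' : Finset GolayPt} {hc : c ∈ supports (golayCode : Set (GolayPt → ZMod 2))}
    {hc' : c' ∈ supports (golayCode : Set (GolayPt → ZMod 2))}
    (h : monoEl σ hσ c hc = monoEl σ' hσ' c' hc') : σ = σ' ∧ c = c' :=
  monoPerm_injective (hσ := hσ) (hσ' := hσ') (hc := hc) (hc' := hc') (congrArg Subtype.val h)

theorem monoEl_congr {σ σ' : Equiv.Perm GolayPt} {hσ : σ ∈ M24} {hσ' : σ' ∈ M24}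
    {c c' : Finset GolayPt} {hc : c ∈ supports (golayCode : Set (GolayPt → ZMod 2))}
    {hc' : c' ∈ supports (golayCode : Set (GolayPt → ZMod 2))}
    (h1 : σ = σ') (h2 : c = c') : monoEl σ hσ c hc = monoEl σ' hσ' c' hc' := by
  subst h1
  subst h2
  rfl

theorem negEl_eq : negEl = monoEl 1 M24.one_mem Finset.univ Spor.univ_mem_supports_golayCode := by
  apply co0_ext
  intro v
  apply Subtype.ext
  funext i
  rw [negEl_smul, monoEl_smul_apply, if_pos (Finset.mem_univ i)]
  rfl

/-- the sign change on a code word. -/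
def sgn (c : Finset GolayPt) (hc : c ∈ supports (golayCode : Set (GolayPt → ZMod 2))) : ↥Co0 :=
  monoEl 1 M24.one_mem c hc

theorem sgn_smul_apply (c : Finset GolayPt)
    (hc : c ∈ supports (golayCode : Set (GolayPt → ZMod 2))) (v : ↥leechLattice) (i : GolayPt) :
    ((sgn c hc • v : ↥leechLattice) : GolayPt → ℤ) i =
      if i ∈ c then -(v : GolayPt → ℤ) i else (v : GolayPt → ℤ) i := rfl

theorem compl_mem_supports {c : Finset GolayPt}
    (hc : c ∈ supports (golayCode : Set (GolayPt → ZMod 2))) :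
    cᶜ ∈ supports (golayCode : Set (GolayPt → ZMod 2)) := by
  have := symmDiff_mem_supports hc Spor.univ_mem_supports_golayCode
  have e : symmDiff c Finset.univ = cᶜ := by
    ext p
    simp [Finset.mem_symmDiff]
  rwa [e] at this

theorem negEl_mul_monoEl (σ : Equiv.Perm GolayPt) (hσ : σ ∈ M24) (c : Finset GolayPt)
    (hc : c ∈ supports (golayCode : Set (GolayPt → ZMod 2))) :
    negEl * monoEl σ hσ c hc = monoEl σ hσ cᶜ (compl_mem_supports hc) := by
  rw [negEl_eq, monoEl_mul]
  apply monoEl_congr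
  · rw [one_mul]
  · ext p
    simp [Finset.mem_symmDiff]

/-- the action on the vectors with a single non-zero coordinate. -/
theorem monoEl_smul_e8' (σ : Equiv.Perm GolayPt) (hσ : σ ∈ M24) (c : Finset GolayPt)
    (hc : c ∈ supports (golayCode : Set (GolayPt → ZMod 2))) (i : GolayPt) :
    monoEl σ hσ c hc • e8 i = if σ i ∈ c then -e8 (σ i) else e8 (σ i) := by
  have h : ((monoEl σ hσ c hc • e8 i : ↥leechLattice) : GolayPt → ℤ) =
      Pi.single (σ i) (if σ i ∈ c then -8 else 8) := by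
    change signedPerm σ c (Pi.single i 8) = _
    rw [signedPerm_single]
  by_cases hi : σ i ∈ c
  · rw [if_pos hi]
    apply Subtype.ext
    rw [h, if_pos hi, coe_neg_e8]
  · rw [if_neg hi]
    apply Subtype.ext
    rw [h, if_neg hi]
    rfl

theorem smul_zsmul' (g : ↥Co0) (n : ℤ) (v : ↥leechLattice) : g • (n • v) = n • (g • v) :=
  map_zsmul (toAddHom g.2) n v

theorem smul_sum' (g : ↥Co0) {ι : Type*} (s : Finset ι) (f : ι → ↥leechLattice) :
    g • (∑ i ∈ s, f i) = ∑ i ∈ s, g • f i :=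
  map_sum (toAddHom g.2) f s

/-- eight times the image of a vector is a combination of the images of the vectors `e8 i`. -/
theorem eight_smul_apply (g : ↥Co0) (v : ↥leechLattice) :
    (8 : ℤ) • (g • v) = ∑ i, ((v : GolayPt → ℤ) i) • (g • e8 i) := by
  rw [← smul_zsmul', eight_smul_eq, smul_sum']
  apply Finset.sum_congr rfl
  intro i _
  rw [smul_zsmul']

theorem eq_of_eight_smul {v w : ↥leechLattice} (h : (8 : ℤ) • v = (8 : ℤ) • w) : v = w := by
  apply Subtype.ext
  funext j
  have := congrArg (fun u : ↥leechLattice => (u : GolayPt → ℤ) j) h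
  simp only [AddSubgroup.coe_zsmul, Pi.smul_apply, smul_eq_mul] at this
  omega

/-- an automorphism is determined by the images of the vectors `e8 i`. -/
theorem co0_ext_e8 {g g' : ↥Co0} (h : ∀ i, g • e8 i = g' • e8 i) : g = g' := by
  apply co0_ext
  intro v
  apply eq_of_eight_smul
  rw [eight_smul_apply, eight_smul_apply]
  apply Finset.sum_congr rfl
  intro i _
  rw [h i]

end Cfsg.Agent.Helper9.Co1Z
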