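import Mathlib
import Cfsg.Agent.Helper9.Co1Z.Mono
import Cfsg.Agent.Helper9.Leech.Frame

/-!
The matrix of an automorphism of the lattice is orthogonal: its inverse has the transposed matrix.
Consequently conjugate sign changes change the same number of signs.
-/

set_option autoImplicit false

namespace Cfsg.Agent.Helper9.Co1Z

open Cfsg
open Cfsg.Agent.Helper9.Golay Cfsg.Agent.Helper9.Leech Cfsg.Agent.Helper9.Leech.Mono
open scoped Pointwise

theorem dot_e8 (x : GolayPt → ℤ) (s : GolayPt) :
    dotInt x ((e8 s : ↥leechLattice) : GolayPt → ℤ) = 8 * x s := by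
  unfold dotInt
  rw [Finset.sum_eq_single s]
  · rw [e8_apply, if_pos rfl]; ring
  · intro j _ hj
    rw [e8_apply, if_neg hj, mul_zero]
  · intro h
    exact absurd (Finset.mem_univ s) h

theorem e8_dot (x : GolayPt → ℤ) (s : GolayPt) :
    dotInt ((e8 s : ↥leechLattice) : GolayPt → ℤ) x = 8 * x s := by
  unfold dotInt
  rw [Finset.sum_eq_single s]
  · rw [e8_apply, if_pos rfl]
  · intro j _ hj
    rw [e8_apply, if_neg hj, zero_mul]
  · intro h
    exact absurd (Finset.mem_univ s) h

/-- the matrix of the inverse is the transposed matrix. -/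
theorem smul_e8_apply (g : ↥Co0) (j s : GolayPt) :
    ((g • e8 j : ↥leechLattice) : GolayPt → ℤ) s =
      ((g⁻¹ • e8 s : ↥leechLattice) : GolayPt → ℤ) j := by
  have h := co0_dot g (e8 j) (g⁻¹ • e8 s)
  rw [smul_inv_smul, dot_e8, e8_dot] at h
  omega

theorem sqNorm_smul_e8 (g : ↥Co0) (j : GolayPt) :
    sqNorm ((g • e8 j : ↥leechLattice) : GolayPt → ℤ) = 64 := by
  rw [← sqNorm_e8 j]
  exact g.2.2 (e8 j)

/-- an automorphism mapping the coordinate vectors of `A` into the span of those of `B`, and
the others into the span of the others, can exist only when `A` and `B` have the same size. -/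
theorem card_eq_of_supp (g : ↥Co0) (A B : Finset GolayPt)
    (h1 : ∀ j ∈ A, ∀ s, s ∉ B → ((g • e8 j : ↥leechLattice) : GolayPt → ℤ) s = 0)
    (h2 : ∀ s ∈ B, ∀ j, j ∉ A → ((g • e8 j : ↥leechLattice) : GolayPt → ℤ) s = 0) :
    A.card = B.card := by
  have e1 : ∑ j ∈ A, ∑ s ∈ B, ((g • e8 j : ↥leechLattice) : GolayPt → ℤ) s ^ 2 =
      64 * (A.card : ℤ) := by
    have : ∀ j ∈ A, ∑ s ∈ B, ((g • e8 j : ↥leechLattice) : GolayPt → ℤ) s ^ 2 = 64 := by
      intro j hj
      rw [← sqNorm_smul_e8 g j]
      unfold sqNorm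
      apply Finset.sum_subset (Finset.subset_univ B)
      intro s _ hs
      rw [h1 j hj s hs]
      ring
    rw [Finset.sum_congr rfl this, Finset.sum_const, nsmul_eq_mul]
    ring
  have e2 : ∑ j ∈ A, ∑ s ∈ B, ((g • e8 j : ↥leechLattice) : GolayPt → ℤ) s ^ 2 =
      64 * (B.card : ℤ) := by
    rw [Finset.sum_comm]
    have : ∀ s ∈ B, ∑ j ∈ A, ((g • e8 j : ↥leechLattice) : GolayPt → ℤ) s ^ 2 = 64 := by
      intro s hs
      rw [← sqNorm_smul_e8 g⁻¹ s]
      unfold sqNorm
      have h3 : ∀ j, ((g • e8 j : ↥leechLattice) : GolayPt → ℤ) s ^ 2 =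
          ((g⁻¹ • e8 s : ↥leechLattice) : GolayPt → ℤ) j ^ 2 := by
        intro j
        rw [smul_e8_apply]
      simp only [h3]
      apply Finset.sum_subset (Finset.subset_univ A)
      intro j _ hj
      rw [← h3, h2 s hs j hj]
      ring
    rw [Finset.sum_congr rfl this, Finset.sum_const, nsmul_eq_mul]
    ring
  rw [e1] at e2
  have : (A.card : ℤ) = (B.card : ℤ) := by omega
  exact_mod_cast this

theorem sgn_smul_e8 (c : Finset GolayPt)
    (hc : c ∈ supports (golayCode : Set (GolayPt → ZMod 2))) (i : GolayPt) :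
    sgn c hc • e8 i = if i ∈ c then -e8 i else e8 i :=
  monoEl_smul_e8' 1 M24.one_mem c hc i

/-- conjugate sign changes change the same number of signs. -/
theorem card_eq_of_conj (g : ↥Co0) (c d : Finset GolayPt)
    (hc : c ∈ supports (golayCode : Set (GolayPt → ZMod 2)))
    (hd : d ∈ supports (golayCode : Set (GolayPt → ZMod 2)))
    (h : g * sgn c hc = sgn d hd * g) : c.card = d.card := by
  apply card_eq_of_supp g
  · intro j hj s hs
    have h3 := congrArg (fun x : ↥Co0 => ((x • e8 j : ↥leechLattice) : GolayPt → ℤ) s) h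
    simp only [mul_smul] at h3
    rw [sgn_smul_e8, if_pos hj, smul_neg', sgn_smul_apply, if_neg hs, AddSubgroup.coe_neg,
      Pi.neg_apply] at h3
    omega
  · intro s hs j hj
    have h3 := congrArg (fun x : ↥Co0 => ((x • e8 j : ↥leechLattice) : GolayPt → ℤ) s) h
    simp only [mul_smul] at h3
    rw [sgn_smul_e8, if_neg hj, sgn_smul_apply, if_pos hs] at h3
    omega

/-- a sign change on `c` is not conjugate to the sign change on the complement unless `c` has
twelve elements. -/
theorem not_conj_neg (g : ↥Co0) (c : Finset GolayPt)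
    (hc : c ∈ supports (golayCode : Set (GolayPt → ZMod 2))) (h12 : c.card ≠ 12)
    (h : g * sgn c hc = negEl * sgn c hc * g) : False := by
  unfold sgn at h
  rw [negEl_mul_monoEl] at h
  have h1 := card_eq_of_conj g c cᶜ hc (compl_mem_supports hc) h
  rw [Finset.card_compl, card_golayPt] at h1
  omega

end Cfsg.Agent.Helper9.Co1Z
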