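import Mathlib
import Cfsg.Prelude.Def_Sporadic_a
import Cfsg.Agent.Helper9.Golay.OctA8
import Cfsg.Agent.Helper9.Golay.DodThree

/-!
The code words meeting the standard octad in nothing or in all of it, and the action on them of
the pointwise stabilizer of the standard octad.
-/

set_option autoImplicit false

namespace Cfsg.Agent.Helper9.Co1Z

open Cfsg
open Cfsg.Agent.Helper9.Golay
open scoped Pointwise

/-- the tables of the sixteen elements fixing the standard octad pointwise. -/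
def k6Tabs : List (List ℕ) :=
  [[0, 1, 2, 3, 4, 5, 6, 7, 8, 9, 10, 11, 12, 13, 14, 15, 16, 17, 18, 19, 20, 21, 22, 23],
   [0, 1, 2, 3, 4, 6, 5, 7, 18, 14, 10, 23, 12, 15, 9, 13, 21, 22, 8, 20, 19, 16, 17, 11],
   [0, 1, 2, 3, 4, 8, 18, 7, 5, 20, 10, 13, 12, 11, 19, 23, 17, 16, 6, 14, 9, 22, 21, 15],
   [0, 1, 2, 3, 4, 9, 14, 7, 20, 5, 10, 17, 12, 16, 6, 21, 13, 11, 19, 18, 8, 15, 23, 22],
   [0, 1, 2, 3, 4, 11, 23, 7, 13, 17, 10, 5, 12, 8, 22, 18, 20, 9, 15, 21, 16, 19, 14, 6],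
   [0, 1, 2, 3, 4, 13, 15, 7, 11, 16, 10, 8, 12, 5, 21, 6, 9, 20, 23, 22, 17, 14, 19, 18],
   [0, 1, 2, 3, 4, 14, 9, 7, 19, 6, 10, 22, 12, 21, 5, 16, 15, 23, 20, 8, 18, 13, 11, 17],
   [0, 1, 2, 3, 4, 15, 13, 7, 23, 21, 10, 18, 12, 6, 16, 5, 14, 19, 11, 17, 22, 9, 20, 8],
   [0, 1, 2, 3, 4, 16, 21, 7, 17, 13, 10, 20, 12, 9, 15, 14, 5, 8, 22, 23, 11, 6, 18, 19],
   [0, 1, 2, 3, 4, 17, 22, 7, 16, 11, 10, 9, 12, 20, 23, 19, 8, 5, 21, 15, 13, 18, 6, 14],
   [0, 1, 2, 3, 4, 18, 8, 7, 6, 19, 10, 15, 12, 23, 20, 11, 22, 21, 5, 9, 14, 17, 16, 13],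
   [0, 1, 2, 3, 4, 19, 20, 7, 14, 18, 10, 21, 12, 22, 8, 17, 23, 15, 9, 5, 6, 11, 13, 16],
   [0, 1, 2, 3, 4, 20, 19, 7, 9, 8, 10, 16, 12, 17, 18, 22, 11, 13, 14, 6, 5, 23, 15, 21],
   [0, 1, 2, 3, 4, 21, 16, 7, 22, 15, 10, 19, 12, 14, 13, 9, 6, 18, 17, 11, 23, 5, 8, 20],
   [0, 1, 2, 3, 4, 22, 17, 7, 21, 23, 10, 14, 12, 19, 11, 20, 18, 6, 16, 13, 15, 8, 5, 9],
   [0, 1, 2, 3, 4, 23, 11, 7, 15, 22, 10, 6, 12, 18, 17, 8, 19, 14, 13, 16, 21, 20, 9, 5]]

theorem k6Tabs_eq : cert6.map (fun e => m24Tables.getD e.2 idT) = k6Tabs := by decide +kernel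

theorem K6_tab {g : Equiv.Perm GolayPt} (hg : g ∈ K6) : ∃ t ∈ k6Tabs, IsTbl g t := by
  obtain ⟨e, he, ht⟩ := K6_table hg
  refine ⟨m24Tables.getD e.2 idT, ?_, ht⟩
  rw [← k6Tabs_eq, List.mem_map]
  exact ⟨e, he, rfl⟩

/-- the masks of the code words meeting the standard octad in nothing or in all of it. -/
def cO : List ℕ := codeList.filter (fun m => m &&& 5279 == 0 || m &&& 5279 == 5279)

theorem cO_length : cO.length = 64 := by decide +kernel

theorem cO_nodup : cO.Nodup := codeList_nodup.filter _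

theorem mem_cO {m : ℕ} : m ∈ cO ↔ m ∈ codeList ∧ (m &&& 5279 = 0 ∨ m &&& 5279 = 5279) := by
  unfold cO
  rw [List.mem_filter, Bool.or_eq_true, beq_iff_eq, beq_iff_eq]

theorem K1_chk : k6Tabs.all (fun t => cO.all (fun m =>
    (m ^^^ pullT t m == 0) || (m ^^^ pullT t m == 16771936))) = true := by decide +kernel

/-- the masks of the thirty octads disjoint from the standard octad. -/
def octO : List ℕ :=
  [1009728, 1256224, 1852256, 2220640, 3050016, 3328320, 4038912, 4645632, 4819776, 5621792,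
   5939296, 6750560, 6842656, 7612992, 8077824, 8694112, 9158944, 9929280, 10021376, 10832640,
   11150144, 11952160, 12126304, 12733024, 13443616, 13721920, 14551296, 14919680, 15515712,
   15762208]

theorem octO_chk : octO.all (fun m => codeList.contains m && popc m == 8 && m &&& 5279 == 0)
    = true := by decide +kernel

theorem sep_chk : (List.range 24).all (fun p => (List.range 24).all (fun s =>
    (5279 : ℕ).testBit p || p == s || octO.any (fun m => m.testBit p && !m.testBit s))) = true := by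
  decide +kernel

theorem min_chk : codeList.all (fun m => (m &&& 16771936 != 0) || m == 0 || m == 5279) = true := by
  decide +kernel

theorem suppM_xor (a b : ℕ) : suppM (a ^^^ b) = symmDiff (suppM a) (suppM b) := by
  ext p
  rw [Finset.mem_symmDiff, mem_suppM, mem_suppM, mem_suppM, Nat.testBit_xor]
  cases a.testBit (ptIdx p) <;> cases b.testBit (ptIdx p) <;> simp

theorem compl_oct0 : (suppM 5279)ᶜ = suppM 16771936 := by
  rw [← suppM_fullMask_xor]
  rfl

theorem suppM_inj' {a b : ℕ} (ha : a < 2 ^ 24) (hb : b < 2 ^ 24) (h : suppM a = suppM b) :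
    a = b :=
  support₂_decW_injOn ha hb h

theorem and_lt (m : ℕ) : m &&& 5279 < 2 ^ 24 :=
  lt_of_le_of_lt Nat.and_le_right (by norm_num)

theorem inter_eq_empty_iff (m : ℕ) : suppM m ∩ suppM 5279 = ∅ ↔ m &&& 5279 = 0 := by
  rw [suppM_inter, ← suppM_zero]
  constructor
  · intro h
    exact suppM_inj' (and_lt m) (by norm_num) h
  · intro h
    rw [h]

theorem inter_eq_self_iff (m : ℕ) : suppM m ∩ suppM 5279 = suppM 5279 ↔ m &&& 5279 = 5279 := by
  rw [suppM_inter]
  constructor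
  · intro h
    exact suppM_inj' (and_lt m) (by norm_num) h
  · intro h
    rw [h]

/-- the code words meeting the standard octad in nothing or in all of it. -/
def CO : Set (Finset GolayPt) :=
  {c | c ∈ supports (golayCode : Set (GolayPt → ZMod 2)) ∧
    (c ∩ suppM 5279 = ∅ ∨ c ∩ suppM 5279 = suppM 5279)}

theorem mem_CO_iff (c : Finset GolayPt) : c ∈ CO ↔ ∃ m ∈ cO, suppM m = c := by
  constructor
  · rintro ⟨hc, h⟩
    obtain ⟨m, hm, rfl⟩ := (mem_supports_iff c).mp hc
    refine ⟨m, mem_cO.mpr ⟨hm, ?_⟩, rfl⟩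
    rcases h with h | h
    · left; exact (inter_eq_empty_iff m).mp h
    · right; exact (inter_eq_self_iff m).mp h
  · rintro ⟨m, hm, rfl⟩
    obtain ⟨hm1, hm2⟩ := mem_cO.mp hm
    refine ⟨(mem_supports_iff _).mpr ⟨m, hm1, rfl⟩, ?_⟩
    rcases hm2 with h | h
    · left; exact (inter_eq_empty_iff m).mpr h
    · right; exact (inter_eq_self_iff m).mpr h

/-- an element fixing the standard octad pointwise maps each of these code words to itself or
to its sum with the complement of the octad. -/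
theorem K1 {τ : Equiv.Perm GolayPt} (hτ : τ ∈ KO (suppM 5279)) {c : Finset GolayPt}
    (hc : c ∈ CO) :
    symmDiff c (τ • c) = ∅ ∨ symmDiff c (τ • c) = (suppM 5279)ᶜ := by
  rw [KO_oct0] at hτ
  obtain ⟨t, ht, hτt⟩ := K6_tab (K6.inv_mem hτ)
  obtain ⟨m, hm, rfl⟩ := (mem_CO_iff c).mp hc
  have h1 := List.all_eq_true.mp (List.all_eq_true.mp K1_chk t ht) m hm
  have h2 : suppM (pullT t m) = τ • suppM m := by
    rw [suppM_pullT hτt, inv_inv]
  rw [← h2, ← suppM_xor, compl_oct0]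
  rw [Bool.or_eq_true, beq_iff_eq, beq_iff_eq] at h1
  rcases h1 with h | h
  · left; rw [h, suppM_zero]
  · right; rw [h]

/-- the octads disjoint from the standard octad separate the points outside it. -/
theorem exists_octad_sep {p s : GolayPt} (hp : p ∉ suppM 5279) (hps : p ≠ s) :
    ∃ c ∈ supports (golayCode : Set (GolayPt → ZMod 2)), c.card = 8 ∧ c ∩ suppM 5279 = ∅ ∧
      p ∈ c ∧ s ∉ c := by
  have h1 := List.all_eq_true.mp (List.all_eq_true.mp sep_chk (ptIdx p)
    (List.mem_range.mpr (ptIdx_lt p))) (ptIdx s) (List.mem_range.mpr (ptIdx_lt s))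
  rw [mem_suppM, Bool.not_eq_true] at hp
  rw [hp, Bool.false_or, Bool.or_eq_true, beq_iff_eq] at h1
  rcases h1 with h1 | h1
  · exfalso
    apply hps
    rw [← idxPtN_ptIdx p, ← idxPtN_ptIdx s, h1]
  · rw [List.any_eq_true] at h1
    obtain ⟨m, hm, hms⟩ := h1
    have h2 := List.all_eq_true.mp octO_chk m hm
    simp only [Bool.and_eq_true, List.contains_eq_mem, decide_eq_true_eq, beq_iff_eq] at h2
    obtain ⟨⟨h3, h4⟩, h5⟩ := h2
    rw [Bool.and_eq_true, Bool.not_eq_true'] at hms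
    refine ⟨suppM m, (mem_supports_iff _).mpr ⟨m, h3, rfl⟩, ?_, (inter_eq_empty_iff m).mpr h5,
      (mem_suppM m p).mpr hms.1, ?_⟩
    · rw [card_suppM, h4]
    · rw [mem_suppM, hms.2]
      simp

/-- a code word inside the standard octad is empty or the octad. -/
theorem eq_of_subset_oct0 {c : Finset GolayPt}
    (hc : c ∈ supports (golayCode : Set (GolayPt → ZMod 2))) (hsub : c ⊆ suppM 5279) :
    c = ∅ ∨ c = suppM 5279 := by
  obtain ⟨m, hm, rfl⟩ := (mem_supports_iff c).mp hc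
  have h1 := List.all_eq_true.mp min_chk m hm
  have h2 : m &&& 16771936 = 0 := by
    apply suppM_inj' (lt_of_le_of_lt Nat.and_le_right (by norm_num)) (by norm_num)
    rw [← suppM_inter, suppM_zero, ← compl_oct0]
    ext p
    simp only [Finset.mem_inter, Finset.mem_compl, Finset.notMem_empty, iff_false, not_and,
      not_not]
    intro hp
    exact hsub hp
  rw [h2] at h1
  simp only [bne_self_eq_false, Bool.false_or, Bool.or_eq_true, beq_iff_eq] at h1
  rcases h1 with h | h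
  · left; rw [h, suppM_zero]
  · right; rw [h]

end Cfsg.Agent.Helper9.Co1Z
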