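import Mathlib
import Cfsg.Agent.Helper9.Co1Z.Eigen
import Cfsg.Agent.Helper9.Co1Z.OctK

/-!
The subgroup of the automorphism group of the lattice acting as a sign on the coordinate vectors
of the standard octad: its description by monomial elements.
-/

set_option autoImplicit false

namespace Cfsg.Agent.Helper9.Co1Z

open Cfsg
open Cfsg.Agent.Helper9.Golay Cfsg.Agent.Helper9.Leech Cfsg.Agent.Helper9.Leech.Mono
open scoped Pointwise

/-- an automorphism mapping a coordinate vector to a coordinate vector up to sign stabilizes the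
standard cross. -/
theorem mem_NN_of_e8 (g : ↥Co0) (i j : GolayPt) (h : g • e8 i = e8 j ∨ g • e8 i = -e8 j) :
    g ∈ NN := by
  obtain ⟨σ₁, hσ₁, h1⟩ := m24_trans none i
  obtain ⟨σ₂, hσ₂, h2⟩ := m24_trans j none
  have e1 : monoEl σ₁ hσ₁ ∅ Spor.empty_mem_supports_golayCode • e8 none = e8 i := by
    rw [monoEl_smul_e8', if_neg (Finset.notMem_empty _), h1]
  have e2 : monoEl σ₂ hσ₂ ∅ Spor.empty_mem_supports_golayCode • e8 j = e8 none := by
    rw [monoEl_smul_e8', if_neg (Finset.notMem_empty _), h2]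
  have m1 := monoEl_mem_NN σ₁ hσ₁ ∅ Spor.empty_mem_supports_golayCode
  have m2 := monoEl_mem_NN σ₂ hσ₂ ∅ Spor.empty_mem_supports_golayCode
  rcases h with h | h
  · have h3 : monoEl σ₂ hσ₂ ∅ Spor.empty_mem_supports_golayCode * g *
        monoEl σ₁ hσ₁ ∅ Spor.empty_mem_supports_golayCode ∈ NN := by
      apply stab_le
      rw [MulAction.mem_stabilizer_iff, mul_smul, mul_smul, e1, h, e2]
    have h4 := NN.mul_mem (NN.mul_mem (NN.inv_mem m2) h3) (NN.inv_mem m1)
    have e : (monoEl σ₂ hσ₂ ∅ Spor.empty_mem_supports_golayCode)⁻¹ *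
        (monoEl σ₂ hσ₂ ∅ Spor.empty_mem_supports_golayCode * g *
          monoEl σ₁ hσ₁ ∅ Spor.empty_mem_supports_golayCode) *
        (monoEl σ₁ hσ₁ ∅ Spor.empty_mem_supports_golayCode)⁻¹ = g := by group
    rwa [e] at h4
  · have h3 : negEl * monoEl σ₂ hσ₂ ∅ Spor.empty_mem_supports_golayCode * g *
        monoEl σ₁ hσ₁ ∅ Spor.empty_mem_supports_golayCode ∈ NN := by
      apply stab_le
      rw [MulAction.mem_stabilizer_iff, mul_smul, mul_smul, mul_smul, e1, h, smul_neg', e2,
        negEl_smul, neg_neg]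
    have h4 := NN.mul_mem (NN.mul_mem (NN.inv_mem (NN.mul_mem negEl_mem_NN m2)) h3)
      (NN.inv_mem m1)
    have e : (negEl * monoEl σ₂ hσ₂ ∅ Spor.empty_mem_supports_golayCode)⁻¹ *
        (negEl * monoEl σ₂ hσ₂ ∅ Spor.empty_mem_supports_golayCode * g *
          monoEl σ₁ hσ₁ ∅ Spor.empty_mem_supports_golayCode) *
        (monoEl σ₁ hσ₁ ∅ Spor.empty_mem_supports_golayCode)⁻¹ = g := by group
    rwa [e] at h4

/-- every element of the stabilizer of the standard cross is monomial. -/
theorem exists_monoEl_of_mem_NN (g : ↥Co0) (hg : g ∈ NN) :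
    ∃ (σ : Equiv.Perm GolayPt) (hσ : σ ∈ M24) (c : Finset GolayPt)
      (hc : c ∈ supports (golayCode : Set (GolayPt → ZMod 2))), g = monoEl σ hσ c hc :=
  stab_monomial g ((mem_NN g).mp hg)

theorem e8_ne_neg' (i j : GolayPt) : e8 i ≠ -e8 j := by
  intro h
  have hij : i = j := e8_inj (Or.inr h)
  rw [hij] at h
  exact e8_ne_neg j h

/-- the automorphisms acting as a sign on the coordinate vectors of the standard octad. -/
def KK : Subgroup ↥Co0 where
  carrier := {g | (∀ i ∈ suppM 5279, g • e8 i = e8 i) ∨ (∀ i ∈ suppM 5279, g • e8 i = -e8 i)}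
  mul_mem' := by
    rintro a b (ha | ha) (hb | hb)
    · left; intro i hi; rw [mul_smul, hb i hi, ha i hi]
    · right; intro i hi; rw [mul_smul, hb i hi, smul_neg', ha i hi]
    · right; intro i hi; rw [mul_smul, hb i hi, ha i hi]
    · left; intro i hi; rw [mul_smul, hb i hi, smul_neg', ha i hi, neg_neg]
  one_mem' := Or.inl (fun i _ => one_smul _ _)
  inv_mem' := by
    rintro a (ha | ha)
    · left; intro i hi; rw [inv_smul_eq_iff, ha i hi]
    · right; intro i hi; rw [inv_smul_eq_iff, smul_neg', ha i hi, neg_neg]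

theorem mem_KK (g : ↥Co0) : g ∈ KK ↔
    (∀ i ∈ suppM 5279, g • e8 i = e8 i) ∨ (∀ i ∈ suppM 5279, g • e8 i = -e8 i) := Iff.rfl

theorem oct0_nonempty : idxPtN 0 ∈ suppM 5279 := by
  rw [mem_suppM_idx' (by norm_num)]; decide

/-- the monomial elements of `KK`. -/
theorem monoEl_mem_KK {τ : Equiv.Perm GolayPt} (hτ : τ ∈ KO (suppM 5279)) {c : Finset GolayPt}
    (hc : c ∈ CO) : monoEl τ (mem_KO_iff.mp hτ).1 c hc.1 ∈ KK := by
  have hfix := (mem_KO_iff.mp hτ).2
  rcases hc.2 with h | h
  · left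
    intro i hi
    rw [monoEl_smul_e8', hfix i hi, if_neg]
    intro hic
    have : i ∈ c ∩ suppM 5279 := Finset.mem_inter.mpr ⟨hic, hi⟩
    rw [h] at this
    exact absurd this (Finset.notMem_empty i)
  · right
    intro i hi
    rw [monoEl_smul_e8', hfix i hi, if_pos]
    rw [← h] at hi
    exact (Finset.mem_inter.mp hi).1

theorem exists_of_mem_KK {g : ↥Co0} (hg : g ∈ KK) :
    ∃ (τ : Equiv.Perm GolayPt) (hτ : τ ∈ KO (suppM 5279)) (c : Finset GolayPt) (hc : c ∈ CO),
      g = monoEl τ (mem_KO_iff.mp hτ).1 c hc.1 := by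
  have hN : g ∈ NN := by
    apply mem_NN_of_e8 g (idxPtN 0) (idxPtN 0)
    rcases hg with h | h
    · left; exact h _ oct0_nonempty
    · right; exact h _ oct0_nonempty
  obtain ⟨σ, hσ, c, hc, rfl⟩ := exists_monoEl_of_mem_NN g hN
  have hfix : ∀ i ∈ suppM 5279, σ i = i := by
    intro i hi
    rcases hg with h | h
    · have h1 := h i hi
      rw [monoEl_smul_e8'] at h1
      split_ifs at h1
      · exact (e8_inj (Or.inr h1.symm)).symm
      · exact e8_inj (Or.inl h1)
    · have h1 := h i hi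
      rw [monoEl_smul_e8'] at h1
      split_ifs at h1
      · exact e8_inj (Or.inl (neg_injective h1))
      · exact e8_inj (Or.inr h1)
  have hτ : σ ∈ KO (suppM 5279) := mem_KO_iff.mpr ⟨hσ, hfix⟩
  have hcO : c ∈ CO := by
    refine ⟨hc, ?_⟩
    rcases hg with h | h
    · left
      rw [Finset.eq_empty_iff_forall_notMem]
      intro i hi
      obtain ⟨hic, hiO⟩ := Finset.mem_inter.mp hi
      have h1 := h i hiO
      rw [monoEl_smul_e8', hfix i hiO, if_pos hic] at h1
      exact e8_ne_neg i h1.symm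
    · right
      apply Finset.inter_eq_right.mpr
      intro i hiO
      by_contra hic
      have h1 := h i hiO
      rw [monoEl_smul_e8', hfix i hiO, if_neg hic] at h1
      exact e8_ne_neg i h1
  exact ⟨σ, hτ, c, hcO, rfl⟩

end Cfsg.Agent.Helper9.Co1Z
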