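import Mathlib
import Cfsg.Agent.Helper9.Co1Z.KGrp

/-!
The structure of the subgroup acting as a sign on the coordinate vectors of the standard octad:
its order, squares and commutators.
-/

set_option autoImplicit false

namespace Cfsg.Agent.Helper9.Co1Z

open Cfsg
open Cfsg.Agent.Helper9.Golay Cfsg.Agent.Helper9.Leech Cfsg.Agent.Helper9.Leech.Mono
open scoped Pointwise

theorem hO : suppM 5279 ∈ supports (golayCode : Set (GolayPt → ZMod 2)) := oct5279_mem.1

/-- the sign change on the standard octad. -/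
def zt : ↥Co0 := sgn (suppM 5279) hO

theorem card_CO : Nat.card ↥CO = 64 := by
  rw [Nat.card_coe_set_eq]
  have h1 : CO = suppM '' {m | m ∈ cO} := by
    ext c
    rw [mem_CO_iff]
    constructor
    · rintro ⟨m, hm, rfl⟩; exact ⟨m, hm, rfl⟩
    · rintro ⟨m, hm, rfl⟩; exact ⟨m, hm, rfl⟩
  rw [h1, Set.ncard_image_of_injOn (suppM_injOn_of_sub cO (fun m hm => (mem_cO.mp hm).1))]
  have h2 : {m | m ∈ cO} = ((cO.toFinset : Finset ℕ) : Set ℕ) := by
    ext m
    simp
  rw [h2, Set.ncard_coe_finset, List.toFinset_card_of_nodup cO_nodup, cO_length]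

theorem card_KK : Nat.card ↥KK = 1024 := by
  have e : ↥(KO (suppM 5279)) × ↥CO ≃ ↥KK :=
    Equiv.ofBijective
      (fun p => ⟨monoEl p.1.1 (mem_KO_iff.mp p.1.2).1 p.2.1 p.2.2.1, monoEl_mem_KK p.1.2 p.2.2⟩)
      ⟨by
        rintro ⟨⟨σ, hσ⟩, ⟨c, hc⟩⟩ ⟨⟨σ', hσ'⟩, ⟨c', hc'⟩⟩ h
        have h1 := congrArg Subtype.val h
        obtain ⟨h2, h3⟩ := monoEl_inj h1
        subst h2
        subst h3
        rfl,
      by
        rintro ⟨g, hg⟩
        obtain ⟨τ, hτ, c, hc, rfl⟩ := exists_of_mem_KK hg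
        exact ⟨⟨⟨τ, hτ⟩, ⟨c, hc⟩⟩, rfl⟩⟩
  rw [← Nat.card_congr e, Nat.card_prod, card_CO, card_KO oct5279_mem]

theorem KO_sq {τ : Equiv.Perm GolayPt} (hτ : τ ∈ KO (suppM 5279)) : τ * τ = 1 := by
  rw [KO_oct0] at hτ
  exact K6_sq hτ

theorem KO_comm {σ τ : Equiv.Perm GolayPt} (hσ : σ ∈ KO (suppM 5279))
    (hτ : τ ∈ KO (suppM 5279)) : σ * τ = τ * σ := by
  have h1 := KO_sq hσ
  have h2 := KO_sq hτ
  have h3 := KO_sq ((KO (suppM 5279)).mul_mem hσ hτ)
  have i1 : σ⁻¹ = σ := inv_eq_of_mul_eq_one_left h1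
  have i2 : τ⁻¹ = τ := inv_eq_of_mul_eq_one_left h2
  have i3 : (σ * τ)⁻¹ = σ * τ := inv_eq_of_mul_eq_one_left h3
  rw [← i3, mul_inv_rev, i1, i2]

theorem negEl_mul_zt : negEl * zt = monoEl 1 M24.one_mem (suppM 5279)ᶜ (compl_mem_supports hO) :=
  negEl_mul_monoEl 1 M24.one_mem (suppM 5279) hO

/-- squares in `KK`. -/
theorem KK_sq {a : ↥Co0} (ha : a ∈ KK) : a * a = 1 ∨ a * a = negEl * zt := by
  obtain ⟨τ, hτ, c, hc, rfl⟩ := exists_of_mem_KK ha
  rw [monoEl_mul]
  rcases K1 hτ hc with h | h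
  · left
    rw [← monoEl_one_empty]
    exact monoEl_congr (KO_sq hτ) h
  · right
    rw [negEl_mul_zt]
    exact monoEl_congr (KO_sq hτ) h

/-- commutators in `KK`. -/
theorem KK_comm {a b : ↥Co0} (ha : a ∈ KK) (hb : b ∈ KK) :
    a * b = b * a ∨ a * b = negEl * zt * (b * a) := by
  obtain ⟨σ, hσ, c, hc, rfl⟩ := exists_of_mem_KK ha
  obtain ⟨τ, hτ, d, hd, rfl⟩ := exists_of_mem_KK hb
  rw [monoEl_mul, monoEl_mul, negEl_mul_zt, monoEl_mul]
  have hστ := KO_comm hσ hτ
  have key : ∀ p : GolayPt,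
      ((p ∈ symmDiff c (σ • d) ↔ p ∈ symmDiff d (τ • c)) ↔
        ¬ (p ∈ symmDiff c (τ • c) ↔ ¬ p ∈ symmDiff d (σ • d))) := by
    intro p
    simp only [Finset.mem_symmDiff]
    tauto
  rcases K1 hτ hc with h1 | h1 <;> rcases K1 hσ hd with h2 | h2
  · left
    apply monoEl_congr hστ
    ext p
    have := key p
    rw [h1, h2] at this
    simp only [Finset.notMem_empty, not_false_eq_true, iff_true] at this
    tauto
  · right
    apply monoEl_congr (by rw [one_mul]; exact hστ)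
    ext p
    have := key p
    rw [h1, h2] at this
    rw [one_smul, Finset.mem_symmDiff (a := p) (s := (suppM 5279)ᶜ)]
    simp only [Finset.notMem_empty, false_iff, not_not] at this
    tauto
  · right
    apply monoEl_congr (by rw [one_mul]; exact hστ)
    ext p
    have := key p
    rw [h1, h2] at this
    rw [one_smul, Finset.mem_symmDiff (a := p) (s := (suppM 5279)ᶜ)]
    simp only [Finset.notMem_empty, not_false_eq_true, iff_true] at this
    tauto
  · left
    apply monoEl_congr hστ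
    ext p
    have := key p
    rw [h1, h2] at this
    tauto

theorem zt_mem_KK : zt ∈ KK := by
  right
  intro i hi
  unfold zt
  rw [sgn_smul_e8, if_pos hi]

theorem negEl_mem_KK : negEl ∈ KK := by
  right
  intro i _
  rw [negEl_smul]

end Cfsg.Agent.Helper9.Co1Z
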