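import Mathlib
import Cfsg.Agent.Helper9.Co1Z.KStruct

/-!
The automorphisms of the lattice commuting up to sign with the subgroup acting as a sign on the
coordinate vectors of the standard octad are the four obvious ones.
-/

set_option autoImplicit false

namespace Cfsg.Agent.Helper9.Co1Z

open Cfsg
open Cfsg.Agent.Helper9.Golay Cfsg.Agent.Helper9.Leech Cfsg.Agent.Helper9.Leech.Mono
open scoped Pointwise

/-- a vector of sum of squares 64 with a single non-zero coordinate. -/
theorem eq_e8_of_supp (v : ↥leechLattice) (p : GolayPt)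
    (hzero : ∀ s, s ≠ p → (v : GolayPt → ℤ) s = 0) (hnorm : sqNorm (v : GolayPt → ℤ) = 64) :
    v = e8 p ∨ v = -e8 p := by
  unfold sqNorm at hnorm
  rw [Finset.sum_eq_single p (fun j _ hj => by rw [hzero j hj]; ring)
    (fun h => absurd (Finset.mem_univ p) h)] at hnorm
  have hsq : (v : GolayPt → ℤ) p = 8 ∨ (v : GolayPt → ℤ) p = -8 := by
    have : ((v : GolayPt → ℤ) p - 8) * ((v : GolayPt → ℤ) p + 8) = 0 := by
      ring_nf
      ring_nf at hnorm
      omega
    rcases mul_eq_zero.mp this with h | h
    · left; omega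
    · right; omega
  rcases hsq with h | h
  · left
    apply Subtype.ext
    funext j
    by_cases hj : j = p
    · rw [hj, h, e8_apply, if_pos rfl]
    · rw [hzero j hj, e8_apply, if_neg hj]
  · right
    apply Subtype.ext
    funext j
    change _ = -(((e8 p : ↥leechLattice) : GolayPt → ℤ) j)
    by_cases hj : j = p
    · rw [hj, h, e8_apply, if_pos rfl]
    · rw [hzero j hj, e8_apply, if_neg hj]
      simp

theorem sgn_mem_KK {c : Finset GolayPt} (hc : c ∈ CO) : sgn c hc.1 ∈ KK :=
  monoEl_mem_KK (τ := 1) (KO (suppM 5279)).one_mem hc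

theorem empty_mem_CO : (∅ : Finset GolayPt) ∈ CO :=
  ⟨Spor.empty_mem_supports_golayCode, Or.inl (Finset.empty_inter _)⟩

theorem idx5_notMem : idxPtN 5 ∉ suppM 5279 := by
  rw [mem_suppM_idx' (by norm_num)]; decide

theorem idx6_notMem : idxPtN 6 ∉ suppM 5279 := by
  rw [mem_suppM_idx' (by norm_num)]; decide

theorem idx56 : idxPtN 5 ≠ idxPtN 6 := by decide

set_option maxHeartbeats 1000000 in
/-- the centralizer up to sign. -/
theorem strongC0 (g : ↥Co0) (h : ∀ k ∈ KK, g * k = k * g ∨ g * k = negEl * k * g) :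
    g = 1 ∨ g = negEl ∨ g = zt ∨ g = negEl * zt := by
  -- the sign changes on the octads outside the standard octad
  have h1 : ∀ c (hc : c ∈ supports (golayCode : Set (GolayPt → ZMod 2))), c.card = 8 →
      c ∩ suppM 5279 = ∅ → g * sgn c hc = sgn c hc * g := by
    intro c hc h8 hdis
    have hcO : c ∈ CO := ⟨hc, Or.inl hdis⟩
    rcases h _ (sgn_mem_KK hcO) with h2 | h2
    · exact h2
    · exfalso
      exact not_conj_neg g c hc (by rw [h8]; norm_num) h2
  -- the coordinate vectors outside the standard octad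
  have h2 : ∀ p, p ∉ suppM 5279 → g • e8 p = e8 p ∨ g • e8 p = -e8 p := by
    intro p hp
    apply eq_e8_of_supp _ p _ (sqNorm_smul_e8 g p)
    intro s hs
    obtain ⟨c, hc, h8, hdis, hpc, hsc⟩ := exists_octad_sep hp (Ne.symm hs)
    have h3 := congrArg (fun x : ↥Co0 => ((x • e8 p : ↥leechLattice) : GolayPt → ℤ) s)
      (h1 c hc h8 hdis)
    simp only [mul_smul] at h3
    rw [sgn_smul_e8, if_pos hpc, smul_neg', sgn_smul_apply, if_neg hsc, AddSubgroup.coe_neg,
      Pi.neg_apply] at h3
    omega
  have hN : g ∈ NN := mem_NN_of_e8 g _ _ (h2 _ idx5_notMem)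
  obtain ⟨σ, hσ, d, hd, rfl⟩ := exists_monoEl_of_mem_NN g hN
  -- the permutation is trivial
  have hfix : ∀ p, p ∉ suppM 5279 → σ p = p := by
    intro p hp
    have h3 := h2 p hp
    rw [monoEl_smul_e8'] at h3
    split_ifs at h3
    · rcases h3 with h3 | h3
      · exact (e8_inj (Or.inr h3.symm)).symm
      · exact e8_inj (Or.inl (neg_injective h3))
    · rcases h3 with h3 | h3
      · exact e8_inj (Or.inl h3)
      · exact e8_inj (Or.inr h3)
  have hσ1 : σ = 1 := by
    obtain ⟨c, hc, h8, hdis, hpc, hsc⟩ := exists_octad_sep idx5_notMem idx56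
    have hoct : c ∈ octads := ⟨hc, h8⟩
    apply KO_regular hoct (g := σ) _ hsc (hfix _ idx6_notMem)
    rw [mem_KO_iff]
    refine ⟨hσ, fun p hp => hfix p ?_⟩
    intro hpO
    have : p ∈ c ∩ suppM 5279 := Finset.mem_inter.mpr ⟨hp, hpO⟩
    rw [hdis] at this
    exact absurd this (Finset.notMem_empty p)
  subst hσ1
  -- the sign set is invariant under the pointwise stabilizer of the octad
  have hinv : ∀ τ ∈ KO (suppM 5279), τ • d = d := by
    intro τ hτ
    have hτM := (mem_KO_iff.mp hτ).1
    have hτfix := (mem_KO_iff.mp hτ).2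
    have hk : monoEl τ hτM ∅ Spor.empty_mem_supports_golayCode ∈ KK :=
      monoEl_mem_KK hτ empty_mem_CO
    have e1 : monoEl 1 M24.one_mem d hd * monoEl τ hτM ∅ Spor.empty_mem_supports_golayCode =
        monoEl τ hτM d hd := by
      rw [monoEl_mul]
      apply monoEl_congr (one_mul τ)
      rw [one_smul]
      ext p
      simp [Finset.mem_symmDiff]
    have e2 : monoEl τ hτM ∅ Spor.empty_mem_supports_golayCode * monoEl 1 M24.one_mem d hd =
        monoEl τ hτM (τ • d) (smul_mem_supports hτM hd) := by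
      rw [monoEl_mul]
      apply monoEl_congr (mul_one τ)
      ext p
      simp [Finset.mem_symmDiff]
    rcases h _ hk with h3 | h3
    · rw [e1, e2] at h3
      exact (monoEl_inj h3).2.symm
    · exfalso
      rw [mul_assoc, e1, e2, negEl_mul_monoEl] at h3
      have h4 := (monoEl_inj h3).2
      have h5 : idxPtN 0 ∈ τ • d ↔ idxPtN 0 ∈ d := by
        rw [mem_smul_iff]
        have : τ⁻¹ (idxPtN 0) = idxPtN 0 := by
          rw [Equiv.Perm.inv_eq_iff_eq, hτfix _ oct0_nonempty]
        rw [this]
      have h6 : idxPtN 0 ∈ d ↔ idxPtN 0 ∉ τ • d := by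
        nth_rewrite 1 [h4]
        rw [Finset.mem_compl]
      tauto
  have hcases : d ⊆ suppM 5279 ∨ (suppM 5279)ᶜ ⊆ d := by
    by_cases hex : ∃ p ∈ d, p ∉ suppM 5279
    · right
      obtain ⟨p, hpd, hpO⟩ := hex
      intro q hq
      rw [Finset.mem_compl] at hq
      obtain ⟨τ, hτ, hτpq⟩ := KO_trans oct5279_mem hpO hq
      rw [← hinv τ hτ, ← hτpq]
      exact Finset.smul_mem_smul_finset hpd
    · left
      push Not at hex
      intro p hp
      exact hex p hp
  rcases hcases with hsub | hsub
  · rcases eq_of_subset_oct0 hd hsub with h3 | h3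
    · left
      rw [← monoEl_one_empty]
      exact monoEl_congr rfl h3
    · right; right; left
      exact monoEl_congr rfl h3
  · have hsub' : dᶜ ⊆ suppM 5279 := by
      intro p hp
      rw [Finset.mem_compl] at hp
      by_contra hpO
      exact hp (hsub (Finset.mem_compl.mpr hpO))
    rcases eq_of_subset_oct0 (compl_mem_supports hd) hsub' with h3 | h3
    · right; left
      rw [negEl_eq]
      apply monoEl_congr rfl
      rw [← compl_compl d, h3, Finset.compl_empty]
    · right; right; right
      rw [negEl_mul_zt]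
      apply monoEl_congr rfl
      rw [← compl_compl d, h3]

end Cfsg.Agent.Helper9.Co1Z
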