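import Mathlib
import Cfsg.Agent.Helper9.Co1Z.Cent

/-!
The image in the quotient by the centre of the subgroup acting as a sign on the coordinate
vectors of the standard octad: order, squares, commutators, centralizer.
-/

set_option autoImplicit false

namespace Cfsg.Agent.Helper9.Co1Z

open Cfsg
open Cfsg.Agent.Helper9.Golay Cfsg.Agent.Helper9.Leech Cfsg.Agent.Helper9.Leech.Mono
open scoped Pointwise

theorem negEl_comm (g : ↥Co0) : negEl * g = g * negEl := negPerm_central g

theorem mem_center_iff' (c : ↥Co0) : c ∈ Subgroup.center ↥Co0 ↔ c = 1 ∨ c = negEl := by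
  constructor
  · intro hc
    have hz := Subgroup.mem_center_iff.mp hc
    rcases central_eq (z := (c : Equiv.Perm ↥leechLattice)) c.2 (by
      intro f hf
      have := hz ⟨f, hf⟩
      exact (congrArg (fun w : ↥Co0 => (w : Equiv.Perm ↥leechLattice)) this).symm) with h | h
    · left; exact Subtype.ext h
    · right; exact Subtype.ext h
  · rintro (h | h)
    · rw [h]; exact Subgroup.one_mem _
    · rw [h, Subgroup.mem_center_iff]
      intro g
      exact (negEl_comm g).symm

theorem proj0_negEl : proj0 negEl = 1 := by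
  rw [proj0_eq_one_iff, mem_center_iff']
  exact Or.inr rfl

theorem proj0_eq_iff' (a b : ↥Co0) : proj0 a = proj0 b ↔ a = b ∨ a = negEl * b := by
  rw [proj0_eq_iff, mem_center_iff']
  constructor
  · rintro (h | h)
    · left
      have : b = a := by
        have := congrArg (fun x => a * x) h
        simpa using this
      exact this.symm
    · right
      have h1 : b = a * negEl := by
        have := congrArg (fun x => a * x) h
        simpa using this
      rw [h1, negEl_comm, mul_assoc, negEl_mul_self, mul_one]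
  · rintro (h | h)
    · left; rw [h]; group
    · right
      have hinv : negEl⁻¹ = negEl := inv_eq_of_mul_eq_one_left negEl_mul_self
      rw [h, mul_inv_rev, hinv, mul_assoc, negEl_comm b, ← mul_assoc, inv_mul_cancel, one_mul]

theorem proj0_surj (x : Spor.Co1) : ∃ g : ↥Co0, proj0 g = x :=
  QuotientGroup.mk'_surjective _ x

/-- the central involution. -/
def zz : Spor.Co1 := proj0 zt

/-- the extraspecial subgroup. -/
def RR : Subgroup Spor.Co1 := KK.map proj0

theorem zt_mul_self : zt * zt = 1 := by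
  unfold zt sgn
  rw [monoEl_mul, ← monoEl_one_empty]
  apply monoEl_congr (one_mul 1)
  rw [one_smul, symmDiff_self]
  rfl

theorem zt_smul_in {i : GolayPt} (hi : i ∈ suppM 5279) : zt • e8 i = -e8 i := by
  unfold zt
  rw [sgn_smul_e8, if_pos hi]

theorem zt_smul_out {i : GolayPt} (hi : i ∉ suppM 5279) : zt • e8 i = e8 i := by
  unfold zt
  rw [sgn_smul_e8, if_neg hi]

theorem zt_ne_one : zt ≠ 1 := by
  intro h
  have h1 := zt_smul_in oct0_nonempty
  rw [h, one_smul] at h1
  exact e8_ne_neg _ h1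

theorem zt_ne_negEl : zt ≠ negEl := by
  intro h
  have h1 := zt_smul_out idx5_notMem
  rw [h, negEl_smul] at h1
  exact e8_ne_neg _ h1.symm

theorem zz_ne_one : zz ≠ 1 := by
  intro h
  unfold zz at h
  rw [proj0_eq_one_iff, mem_center_iff'] at h
  rcases h with h | h
  · exact zt_ne_one h
  · exact zt_ne_negEl h

theorem zz_mul_self : zz * zz = 1 := by
  unfold zz
  rw [← map_mul, zt_mul_self, map_one]

theorem zz_ord : orderOf zz = 2 :=
  orderOf_eq_prime (by rw [pow_two]; exact zz_mul_self) zz_ne_one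

theorem zz_mem : zz ∈ RR := ⟨zt, zt_mem_KK, rfl⟩

theorem proj0_negEl_zt : proj0 (negEl * zt) = zz := by
  rw [map_mul, proj0_negEl, one_mul]
  rfl

theorem oct0_smul {τ : Equiv.Perm GolayPt} (hτ : τ ∈ KO (suppM 5279)) :
    τ • suppM 5279 = suppM 5279 :=
  smul_eq_of_fix (mem_KO_iff.mp hτ).2

theorem zt_comm_KK {k : ↥Co0} (hk : k ∈ KK) : k * zt = zt * k := by
  obtain ⟨τ, hτ, c, hc, rfl⟩ := exists_of_mem_KK hk
  unfold zt sgn
  rw [monoEl_mul, monoEl_mul]
  apply monoEl_congr
  · rw [one_mul, mul_one]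
  · rw [oct0_smul hτ, one_smul, symmDiff_comm]

theorem RR_comm : ∀ r ∈ RR, r * zz = zz * r := by
  rintro _ ⟨k, hk, rfl⟩
  unfold zz
  rw [← map_mul, ← map_mul, zt_comm_KK hk]

theorem RR_commutator : ∀ a ∈ RR, ∀ b ∈ RR,
    a * b * a⁻¹ * b⁻¹ = 1 ∨ a * b * a⁻¹ * b⁻¹ = zz := by
  rintro _ ⟨a, ha, rfl⟩ _ ⟨b, hb, rfl⟩
  rcases KK_comm ha hb with h | h
  · left
    rw [← map_mul, h, map_mul]
    group
  · right
    have e : proj0 a * proj0 b = zz * (proj0 b * proj0 a) := by
      rw [← map_mul, h, map_mul, proj0_negEl_zt, map_mul]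
    rw [e]
    group

theorem RR_sq : ∀ a ∈ RR, a * a = 1 ∨ a * a = zz := by
  rintro _ ⟨a, ha, rfl⟩
  rcases KK_sq ha with h | h
  · left; rw [← map_mul, h, map_one]
  · right; rw [← map_mul, h, proj0_negEl_zt]

theorem RR_strongC : ∀ c : Spor.Co1, (∀ r ∈ RR, c * r = r * c) → c = 1 ∨ c = zz := by
  intro c hc
  obtain ⟨g, rfl⟩ := proj0_surj c
  have h1 : ∀ k ∈ KK, g * k = k * g ∨ g * k = negEl * k * g := by
    intro k hk
    have h2 := hc (proj0 k) ⟨k, hk, rfl⟩
    rw [← map_mul, ← map_mul, proj0_eq_iff'] at h2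
    rcases h2 with h2 | h2
    · left; exact h2
    · right; rw [h2, mul_assoc]
  rcases strongC0 g h1 with h | h | h | h
  · left; rw [h, map_one]
  · left; rw [h, proj0_negEl]
  · right; rw [h]; rfl
  · right; rw [h, proj0_negEl_zt]

theorem center_le_KK : Subgroup.center ↥Co0 ≤ KK := by
  intro c hc
  rcases (mem_center_iff' c).mp hc with h | h
  · rw [h]; exact KK.one_mem
  · rw [h]; exact negEl_mem_KK

theorem card_RR : Nat.card ↥RR = 2 ^ (2 * 4 + 1) := by
  have h := card_map_mul proj0 KK
  rw [proj0_ker, inf_eq_left.mpr center_le_KK, card_center', card_KK] at h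
  unfold RR
  omega

end Cfsg.Agent.Helper9.Co1Z
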