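import Mathlib
import Cfsg.Agent.Helper9.Co1Z.Proj

/-!
The centralizer of the central involution normalizes the extraspecial subgroup; a conjugate of
the central involution inside the extraspecial subgroup; an elementary abelian subgroup of rank 5.
-/

set_option autoImplicit false

namespace Cfsg.Agent.Helper9.Co1Z

open Cfsg
open Cfsg.Agent.Helper9.Golay Cfsg.Agent.Helper9.Leech Cfsg.Agent.Helper9.Leech.Mono
open scoped Pointwise

theorem card_oct0 : (suppM 5279).card = 8 := oct5279_mem.2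

/-- an element commuting with the central involution modulo the centre lifts to an element
commuting with the sign change on the standard octad. -/
theorem lift_comm {g : ↥Co0} (h : proj0 g * zz = zz * proj0 g) : g * zt = zt * g := by
  unfold zz at h
  rw [← map_mul, ← map_mul, proj0_eq_iff'] at h
  rcases h with h | h
  · exact h
  · exfalso
    rw [← mul_assoc] at h
    exact not_conj_neg g (suppM 5279) hO (by rw [card_oct0]; norm_num) h

theorem supp_of_neg {y : ↥leechLattice} (h : zt • y = -y) :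
    ∀ j, j ∉ suppM 5279 → (y : GolayPt → ℤ) j = 0 := by
  intro j hj
  have h1 : ((zt • y : ↥leechLattice) : GolayPt → ℤ) j = ((-y : ↥leechLattice) : GolayPt → ℤ) j := by
    rw [h]
  unfold zt at h1
  rw [sgn_smul_apply, if_neg hj, AddSubgroup.coe_neg, Pi.neg_apply] at h1
  omega

theorem smul_supp_pos {k : ↥Co0} (hk : ∀ i ∈ suppM 5279, k • e8 i = e8 i) {y : ↥leechLattice}
    (hy : ∀ j, j ∉ suppM 5279 → (y : GolayPt → ℤ) j = 0) : k • y = y := by
  apply eq_of_eight_smul
  rw [eight_smul_apply, eight_smul_eq]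
  apply Finset.sum_congr rfl
  intro i _
  by_cases hi : i ∈ suppM 5279
  · rw [hk i hi]
  · rw [hy i hi, zero_smul, zero_smul]

theorem smul_supp_neg {k : ↥Co0} (hk : ∀ i ∈ suppM 5279, k • e8 i = -e8 i) {y : ↥leechLattice}
    (hy : ∀ j, j ∉ suppM 5279 → (y : GolayPt → ℤ) j = 0) : k • y = -y := by
  apply eq_of_eight_smul
  rw [eight_smul_apply, smul_neg, eight_smul_eq, ← Finset.sum_neg_distrib]
  apply Finset.sum_congr rfl
  intro i _
  by_cases hi : i ∈ suppM 5279
  · rw [hk i hi, smul_neg]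
  · rw [hy i hi, zero_smul, zero_smul, neg_zero]

theorem conj_mem_KK {g k : ↥Co0} (hg : g * zt = zt * g) (hk : k ∈ KK) : g * k * g⁻¹ ∈ KK := by
  have hg' : g⁻¹ * zt = zt * g⁻¹ := by
    calc g⁻¹ * zt = g⁻¹ * (zt * g) * g⁻¹ := by group
      _ = g⁻¹ * (g * zt) * g⁻¹ := by rw [hg]
      _ = zt * g⁻¹ := by group
  have hy : ∀ i ∈ suppM 5279, ∀ j, j ∉ suppM 5279 →
      ((g⁻¹ • e8 i : ↥leechLattice) : GolayPt → ℤ) j = 0 := by
    intro i hi
    apply supp_of_neg
    rw [← mul_smul, ← hg', mul_smul, zt_smul_in hi, smul_neg']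
  rcases hk with hk | hk
  · left
    intro i hi
    rw [mul_smul, mul_smul, smul_supp_pos hk (hy i hi), smul_inv_smul]
  · right
    intro i hi
    rw [mul_smul, mul_smul, smul_supp_neg hk (hy i hi), smul_neg', smul_inv_smul]

theorem RR_norm : ∀ c : Spor.Co1, c * zz = zz * c → ∀ r ∈ RR, c * r * c⁻¹ ∈ RR := by
  intro c hc r hr
  obtain ⟨g, rfl⟩ := proj0_surj c
  obtain ⟨k, hk, rfl⟩ := hr
  refine ⟨g * k * g⁻¹, conj_mem_KK (lift_comm hc) hk, ?_⟩
  rw [map_mul, map_mul, map_inv]

/-- an octad disjoint from the standard octad. -/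
theorem oct2_mem : suppM 1009728 ∈ octads :=
  (mem_octads_iff _).mpr ⟨1009728, by decide +kernel, by decide, rfl⟩

theorem oct2_disj : suppM 1009728 ∩ suppM 5279 = ∅ := (inter_eq_empty_iff _).mpr (by decide)

theorem oct2_CO : suppM 1009728 ∈ CO := ⟨oct2_mem.1, Or.inl oct2_disj⟩

theorem RR_nwc : ∃ g : Spor.Co1, g * zz * g⁻¹ ∈ RR ∧ g * zz * g⁻¹ ≠ zz := by
  obtain ⟨σ, hσ, hσO⟩ := exists_smul_oct0 oct2_mem
  have e1 : monoEl σ hσ ∅ Spor.empty_mem_supports_golayCode * zt =
      sgn (suppM 1009728) oct2_mem.1 * monoEl σ hσ ∅ Spor.empty_mem_supports_golayCode := by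
    unfold zt sgn
    rw [monoEl_mul, monoEl_mul]
    apply monoEl_congr
    · rw [one_mul, mul_one]
    · rw [hσO, one_smul]
      ext p
      simp [Finset.mem_symmDiff]
  have e2 : monoEl σ hσ ∅ Spor.empty_mem_supports_golayCode * zt *
      (monoEl σ hσ ∅ Spor.empty_mem_supports_golayCode)⁻¹ = sgn (suppM 1009728) oct2_mem.1 := by
    rw [e1]; group
  refine ⟨proj0 (monoEl σ hσ ∅ Spor.empty_mem_supports_golayCode), ?_, ?_⟩
  · refine ⟨sgn (suppM 1009728) oct2_mem.1, sgn_mem_KK oct2_CO, ?_⟩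
    unfold zz
    rw [← map_inv, ← map_mul, ← map_mul, e2]
  · unfold zz
    rw [← map_inv, ← map_mul, ← map_mul, e2, Ne, proj0_eq_iff']
    rintro (h | h)
    · have h1 := (monoEl_inj h).2
      have h2 : suppM 1009728 ∩ suppM 5279 = suppM 5279 := by rw [h1, Finset.inter_self]
      rw [oct2_disj] at h2
      have := card_oct0
      rw [← h2] at this
      simp at this
    · rw [negEl_mul_zt] at h
      have h1 := (monoEl_inj h).2
      have h2 := congrArg Finset.card h1
      rw [Finset.card_compl, card_golayPt, card_oct0, oct2_mem.2] at h2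
      omega

/-- the sign changes of `KK`. -/
def AA0 : Subgroup ↥Co0 where
  carrier := {g | ∃ (c : Finset GolayPt) (hc : c ∈ CO), g = sgn c hc.1}
  mul_mem' := by
    rintro _ _ ⟨c, hc, rfl⟩ ⟨d, hd, rfl⟩
    have hcd : symmDiff c d ∈ CO := by
      refine ⟨symmDiff_mem_supports hc.1 hd.1, ?_⟩
      have e : symmDiff c d ∩ suppM 5279 = symmDiff (c ∩ suppM 5279) (d ∩ suppM 5279) := by
        ext p
        simp only [Finset.mem_inter, Finset.mem_symmDiff]
        tauto
      rw [e]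
      rcases hc.2 with h1 | h1 <;> rcases hd.2 with h2 | h2 <;> rw [h1, h2]
      · left; rw [symmDiff_self]; rfl
      · right
        ext p
        simp [Finset.mem_symmDiff]
      · right
        ext p
        simp [Finset.mem_symmDiff]
      · left; rw [symmDiff_self]; rfl
    refine ⟨symmDiff c d, hcd, ?_⟩
    unfold sgn
    rw [monoEl_mul]
    apply monoEl_congr (one_mul 1)
    rw [one_smul]
  one_mem' := ⟨∅, empty_mem_CO, monoEl_one_empty.symm⟩
  inv_mem' := by
    rintro _ ⟨c, hc, rfl⟩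
    refine ⟨c, hc, ?_⟩
    apply inv_eq_of_mul_eq_one_left
    unfold sgn
    rw [monoEl_mul, ← monoEl_one_empty]
    apply monoEl_congr (one_mul 1)
    rw [one_smul, symmDiff_self]
    rfl

theorem AA0_le : AA0 ≤ KK := by
  rintro _ ⟨c, hc, rfl⟩
  exact sgn_mem_KK hc

theorem card_AA0 : Nat.card ↥AA0 = 64 := by
  have e : ↥CO ≃ ↥AA0 :=
    Equiv.ofBijective (fun c => ⟨sgn c.1 c.2.1, ⟨c.1, c.2, rfl⟩⟩)
      ⟨by
        rintro ⟨c, hc⟩ ⟨d, hd⟩ h
        have h1 := congrArg Subtype.val h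
        have h2 := (monoEl_inj h1).2
        subst h2
        rfl,
      by
        rintro ⟨g, c, hc, rfl⟩
        exact ⟨⟨c, hc⟩, rfl⟩⟩
  rw [← Nat.card_congr e, card_CO]

theorem univ_mem_CO : (Finset.univ : Finset GolayPt) ∈ CO :=
  ⟨Spor.univ_mem_supports_golayCode, Or.inr (Finset.univ_inter _)⟩

theorem center_le_AA0 : Subgroup.center ↥Co0 ≤ AA0 := by
  intro c hc
  rcases (mem_center_iff' c).mp hc with h | h
  · rw [h]; exact AA0.one_mem
  · rw [h, negEl_eq]
    exact ⟨Finset.univ, univ_mem_CO, rfl⟩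

/-- the elementary abelian subgroup of rank 5. -/
def AA : Subgroup Spor.Co1 := AA0.map proj0

theorem AA_le : AA ≤ RR := Subgroup.map_mono AA0_le

theorem card_AA : Nat.card ↥AA = 2 ^ (4 + 1) := by
  have h := card_map_mul proj0 AA0
  rw [proj0_ker, inf_eq_left.mpr center_le_AA0, card_center', card_AA0] at h
  unfold AA
  omega

theorem AA_comm : ∀ a ∈ AA, ∀ b ∈ AA, a * b = b * a := by
  rintro _ ⟨_, ⟨c, hc, rfl⟩, rfl⟩ _ ⟨_, ⟨d, hd, rfl⟩, rfl⟩
  rw [← map_mul, ← map_mul]
  congr 1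
  unfold sgn
  rw [monoEl_mul, monoEl_mul]
  apply monoEl_congr rfl
  rw [one_smul, one_smul, symmDiff_comm]

theorem AA_sq : ∀ a ∈ AA, a * a = 1 := by
  rintro _ ⟨_, ⟨c, hc, rfl⟩, rfl⟩
  rw [← map_mul]
  have : sgn c hc.1 * sgn c hc.1 = 1 := by
    unfold sgn
    rw [monoEl_mul, ← monoEl_one_empty]
    apply monoEl_congr (one_mul 1)
    rw [one_smul, symmDiff_self]
    rfl
  rw [this, map_one]

end Cfsg.Agent.Helper9.Co1Z
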