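import Mathlib
import Cfsg.Agent.Helper9.Co1Z.Norm

/-!
The centralizer of the sign change on the standard octad: its image modulo the centre is the
centralizer of the central involution, and it contains the monomial subgroup attached to the
stabilizer of the octad.
-/

set_option autoImplicit false

namespace Cfsg.Agent.Helper9.Co1Z

open Cfsg
open Cfsg.Agent.Helper9.Golay Cfsg.Agent.Helper9.Leech Cfsg.Agent.Helper9.Leech.Mono
open scoped Pointwise

/-- the centralizer of the sign change on the standard octad. -/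
def Ct : Subgroup ↥Co0 := Subgroup.centralizer ({zt} : Set ↥Co0)

theorem mem_Ct (g : ↥Co0) : g ∈ Ct ↔ g * zt = zt * g := by
  unfold Ct
  rw [Subgroup.mem_centralizer_singleton_iff]

theorem center_le_Ct : Subgroup.center ↥Co0 ≤ Ct := by
  intro c hc
  rw [mem_Ct]
  exact (Subgroup.mem_center_iff.mp hc zt).symm

theorem centralizer_zz : Subgroup.centralizer ({zz} : Set Spor.Co1) = Ct.map proj0 := by
  ext c
  rw [Subgroup.mem_centralizer_singleton_iff]
  constructor
  · intro hc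
    obtain ⟨g, rfl⟩ := proj0_surj c
    exact ⟨g, (mem_Ct g).mpr (lift_comm hc), rfl⟩
  · rintro ⟨g, hg, rfl⟩
    unfold zz
    rw [← map_mul, ← map_mul, (mem_Ct g).mp hg]

theorem card_centralizer_zz :
    Nat.card ↥(Subgroup.centralizer ({zz} : Set Spor.Co1)) * 2 = Nat.card ↥Ct := by
  rw [centralizer_zz]
  have h := card_map_mul proj0 Ct
  rw [proj0_ker, inf_eq_left.mpr center_le_Ct, card_center'] at h
  exact h

theorem card_Ct_dvd : Nat.card ↥Ct ∣ 8315553613086720000 := by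
  rw [← card_co0]
  exact Subgroup.card_subgroup_dvd_card Ct

/-- the monomial elements in the centralizer. -/
theorem monoEl_mem_Ct_iff (σ : Equiv.Perm GolayPt) (hσ : σ ∈ M24) (c : Finset GolayPt)
    (hc : c ∈ supports (golayCode : Set (GolayPt → ZMod 2))) :
    monoEl σ hσ c hc ∈ Ct ↔ σ • suppM 5279 = suppM 5279 := by
  rw [mem_Ct]
  unfold zt sgn
  rw [monoEl_mul, monoEl_mul]
  constructor
  · intro h
    have h1 := (monoEl_inj h).2
    rw [one_smul, symmDiff_comm (suppM 5279) c] at h1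
    exact symmDiff_right_injective c h1
  · intro h
    apply monoEl_congr
    · rw [one_mul, mul_one]
    · rw [h, one_smul, symmDiff_comm]

/-- the monomial part of the centralizer. -/
def NO : Subgroup ↥Co0 := Ct ⊓ NN

theorem NO_le : NO ≤ Ct := inf_le_left

theorem mem_GO_iff {σ : Equiv.Perm GolayPt} :
    σ ∈ GO (suppM 5279) ↔ σ ∈ M24 ∧ σ • suppM 5279 = suppM 5279 := by
  unfold GO
  rw [Subgroup.mem_inf]
  constructor
  · intro h; exact ⟨h.1, MulAction.mem_stabilizer_iff.mp h.2⟩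
  · intro h; exact ⟨h.1, MulAction.mem_stabilizer_iff.mpr h.2⟩

theorem card_NO : Nat.card ↥NO = 1321205760 := by
  have e : ↥(GO (suppM 5279)) × ↥(supports (golayCode : Set (GolayPt → ZMod 2))) ≃ ↥NO :=
    Equiv.ofBijective
      (fun p => ⟨monoEl p.1.1 (mem_GO_iff.mp p.1.2).1 p.2.1 p.2.2,
        Subgroup.mem_inf.mpr ⟨(monoEl_mem_Ct_iff _ _ _ _).mpr (mem_GO_iff.mp p.1.2).2,
          monoEl_mem_NN _ _ _ _⟩⟩)
      ⟨by
        rintro ⟨⟨σ, hσ⟩, ⟨c, hc⟩⟩ ⟨⟨σ', hσ'⟩, ⟨c', hc'⟩⟩ h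
        have h1 := congrArg Subtype.val h
        obtain ⟨h2, h3⟩ := monoEl_inj h1
        subst h2
        subst h3
        rfl,
      by
        rintro ⟨g, hg⟩
        obtain ⟨hg1, hg2⟩ := Subgroup.mem_inf.mp hg
        obtain ⟨σ, hσ, c, hc, rfl⟩ := exists_monoEl_of_mem_NN g hg2
        have h3 := (monoEl_mem_Ct_iff σ hσ c hc).mp hg1
        exact ⟨⟨⟨σ, mem_GO_iff.mpr ⟨hσ, h3⟩⟩, ⟨c, hc⟩⟩, rfl⟩⟩
  rw [← Nat.card_congr e, Nat.card_prod, card_supports, card_GO oct5279_mem]

theorem card_NO_dvd : 1321205760 ∣ Nat.card ↥Ct := by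
  rw [← card_NO]
  exact Subgroup.card_dvd_of_le NO_le

end Cfsg.Agent.Helper9.Co1Z
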