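import Mathlib
import Cfsg.Agent.Helper9.Co1Z.Ord1
import Cfsg.Agent.Helper9.Leech.Xi

/-!
Non-monomial elements of the centralizer of the sign change on the standard octad: conjugates of
the automorphism attached to a partition of the points into six sets of four.
-/

set_option autoImplicit false

namespace Cfsg.Agent.Helper9.Co1Z

open Cfsg
open Cfsg.Agent.Helper9.Golay Cfsg.Agent.Helper9.Leech Cfsg.Agent.Helper9.Leech.Mono
open scoped Pointwise

/-- the non-monomial automorphism as an element of the group. -/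
def xiEl : ↥Co0 := ⟨xiPerm, xiPerm_mem⟩

theorem xiEl_smul_coe (v : ↥leechLattice) :
    ((xiEl • v : ↥leechLattice) : GolayPt → ℤ) = xiFun (v : GolayPt → ℤ) := rfl

/-- the vectors with one entry `4` and three entries `-4`. -/
def wvF (T : Finset GolayPt) (j : GolayPt) : GolayPt → ℤ :=
  fun i => if i = j then 4 else if i ∈ T then -4 else 0

theorem tsum_e8 (k : GolayPt) (l : Fin 6) :
    Leech.tsum ((e8 k : ↥leechLattice) : GolayPt → ℤ) l = if kap k = l then 8 else 0 := by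
  unfold Leech.tsum
  change ∑ i ∈ Finset.univ.filter (fun p => kap p = l), (Pi.single k (8 : ℤ) : GolayPt → ℤ) i = _
  rw [Finset.sum_pi_single']
  simp only [Finset.mem_filter, Finset.mem_univ, true_and]

theorem hsum_e8 (k : GolayPt) (l : Fin 6) :
    hsum ((e8 k : ↥leechLattice) : GolayPt → ℤ) l = if kap k = l then 4 else 0 := by
  unfold hsum
  rw [tsum_e8]
  split_ifs <;> norm_num

theorem mem_tetU_zero (i : GolayPt) : i ∈ tetU {0} ↔ kap i = 0 := by
  unfold tetU
  simp only [Finset.mem_filter, Finset.mem_univ, true_and, Finset.mem_singleton]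

theorem xiEl_smul_e8 (k : GolayPt) (hk : kap k = 0) :
    ((xiEl • e8 k : ↥leechLattice) : GolayPt → ℤ) = wvF (tetU {0}) k := by
  rw [xiEl_smul_coe]
  funext i
  unfold xiFun wvF
  rw [hsum_e8, hsum_e8, e8_apply]
  by_cases h0 : kap i = 0
  · have hT : i ∈ tetU {0} := (mem_tetU_zero i).mpr h0
    rw [if_pos h0, if_pos hk]
    by_cases hik : i = k
    · rw [if_pos hik, if_pos hik]; norm_num
    · rw [if_neg hik, if_neg hik, if_pos hT]; norm_num
  · have hT : i ∉ tetU {0} := fun h => h0 ((mem_tetU_zero i).mp h)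
    rw [if_neg h0]
    have hik : i ≠ k := fun h => h0 (h ▸ hk)
    have hne : ¬ kap k = kap i := fun h => h0 (h ▸ hk)
    rw [if_neg hne, if_neg hik, if_neg hik, if_neg hT]
    norm_num

theorem tsum_sgn (S : Finset (Fin 6)) (hS : tetU S ∈ supports (golayCode : Set (GolayPt → ZMod 2)))
    (v : ↥leechLattice) (l : Fin 6) :
    Leech.tsum ((sgn (tetU S) hS • v : ↥leechLattice) : GolayPt → ℤ) l =
      if l ∈ S then -Leech.tsum (v : GolayPt → ℤ) l else Leech.tsum (v : GolayPt → ℤ) l := by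
  unfold Leech.tsum
  by_cases hl : l ∈ S
  · rw [if_pos hl, ← Finset.sum_neg_distrib]
    apply Finset.sum_congr rfl
    intro i hi
    have hi' : i ∈ tetU S := by
      unfold tetU
      rw [Finset.mem_filter]
      exact ⟨Finset.mem_univ i, by rw [(Finset.mem_filter.mp hi).2]; exact hl⟩
    rw [sgn_smul_apply, if_pos hi']
  · rw [if_neg hl]
    apply Finset.sum_congr rfl
    intro i hi
    have hi' : i ∉ tetU S := by
      unfold tetU
      rw [Finset.mem_filter]
      rintro ⟨-, h⟩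
      rw [(Finset.mem_filter.mp hi).2] at h
      exact hl h
    rw [sgn_smul_apply, if_neg hi']

theorem hsum_sgn (S : Finset (Fin 6)) (hS : tetU S ∈ supports (golayCode : Set (GolayPt → ZMod 2)))
    (v : ↥leechLattice) (l : Fin 6) :
    hsum ((sgn (tetU S) hS • v : ↥leechLattice) : GolayPt → ℤ) l =
      if l ∈ S then -hsum (v : GolayPt → ℤ) l else hsum (v : GolayPt → ℤ) l := by
  have he := tsum_even ((mem_leechLattice_iff _).mp v.2) l
  unfold hsum
  rw [tsum_sgn]
  split_ifs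
  · omega
  · rfl

/-- the non-monomial automorphism commutes with the sign changes on unions of parts. -/
theorem xiEl_comm_sgn (S : Finset (Fin 6))
    (hS : tetU S ∈ supports (golayCode : Set (GolayPt → ZMod 2))) :
    xiEl * sgn (tetU S) hS = sgn (tetU S) hS * xiEl := by
  apply co0_ext
  intro v
  apply Subtype.ext
  funext i
  rw [mul_smul, mul_smul, xiEl_smul_coe, sgn_smul_apply, xiEl_smul_coe]
  have hmem : i ∈ tetU S ↔ kap i ∈ S := by
    unfold tetU
    simp only [Finset.mem_filter, Finset.mem_univ, true_and]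
  unfold xiFun
  rw [hsum_sgn, hsum_sgn, sgn_smul_apply]
  by_cases h0 : kap i = 0
  · by_cases hi : i ∈ tetU S
    · have h0S : (0 : Fin 6) ∈ S := h0 ▸ hmem.mp hi
      simp only [if_pos h0, if_pos hi, if_pos h0S]
      ring
    · have h0S : (0 : Fin 6) ∉ S := fun h => hi (hmem.mpr (h0 ▸ h))
      simp only [if_pos h0, if_neg hi, if_neg h0S]
  · by_cases hi : i ∈ tetU S
    · simp only [if_neg h0, if_pos hi, if_pos (hmem.mp hi)]
      ring
    · simp only [if_neg h0, if_neg hi, if_neg (fun h => hi (hmem.mpr h))]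

/-- the permutation automorphisms. -/
def PP (σ : Equiv.Perm GolayPt) (hσ : σ ∈ M24) : ↥Co0 :=
  monoEl σ hσ ∅ Spor.empty_mem_supports_golayCode

theorem PP_smul_e8 (σ : Equiv.Perm GolayPt) (hσ : σ ∈ M24) (i : GolayPt) :
    PP σ hσ • e8 i = e8 (σ i) := by
  unfold PP
  rw [monoEl_smul_e8', if_neg (Finset.notMem_empty _)]

theorem PP_smul_apply (σ : Equiv.Perm GolayPt) (hσ : σ ∈ M24) (v : ↥leechLattice) (i : GolayPt) :
    ((PP σ hσ • v : ↥leechLattice) : GolayPt → ℤ) i = (v : GolayPt → ℤ) (σ⁻¹ i) := by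
  unfold PP
  rw [monoEl_smul_apply, if_neg (Finset.notMem_empty _)]

theorem tetU01_mem : tetU {0, 1} ∈ supports (golayCode : Set (GolayPt → ZMod 2)) :=
  tetU_mem _ ⟨1, by decide⟩

theorem PP_mul_sgn (σ : Equiv.Perm GolayPt) (hσ : σ ∈ M24)
    (h : σ • tetU {0, 1} = suppM 5279) :
    PP σ hσ * sgn (tetU {0, 1}) tetU01_mem = zt * PP σ hσ := by
  unfold PP zt sgn
  rw [monoEl_mul, monoEl_mul]
  apply monoEl_congr
  · rw [one_mul, mul_one]
  · rw [h, one_smul]
    exact symmDiff_comm _ _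

/-- the conjugates of the non-monomial automorphism in the centralizer. -/
theorem xi_conj_mem_Ct (σ τ : Equiv.Perm GolayPt) (hσ : σ ∈ M24) (hτ : τ ∈ M24)
    (h1 : σ • tetU {0, 1} = suppM 5279) (h2 : τ • tetU {0, 1} = suppM 5279) :
    PP σ hσ * xiEl * (PP τ hτ)⁻¹ ∈ Ct := by
  rw [mem_Ct]
  have hA := PP_mul_sgn σ hσ h1
  have hA0 := PP_mul_sgn τ hτ h2
  have hB := xiEl_comm_sgn {0, 1} tetU01_mem
  have h0 : (PP τ hτ)⁻¹ * zt = sgn (tetU {0, 1}) tetU01_mem * (PP τ hτ)⁻¹ := by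
    rw [eq_mul_inv_iff_mul_eq, mul_assoc, ← hA0, inv_mul_cancel_left]
  calc PP σ hσ * xiEl * (PP τ hτ)⁻¹ * zt
      = PP σ hσ * xiEl * ((PP τ hτ)⁻¹ * zt) := by simp only [mul_assoc]
    _ = PP σ hσ * (xiEl * sgn (tetU {0, 1}) tetU01_mem) * (PP τ hτ)⁻¹ := by
        rw [h0]; simp only [mul_assoc]
    _ = (PP σ hσ * sgn (tetU {0, 1}) tetU01_mem) * xiEl * (PP τ hτ)⁻¹ := by
        rw [hB]; simp only [mul_assoc]
    _ = zt * (PP σ hσ * xiEl * (PP τ hτ)⁻¹) := by
        rw [hA]; simp only [mul_assoc]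

/-- the image of a coordinate vector under such a conjugate. -/
theorem xi_conj_smul (σ τ : Equiv.Perm GolayPt) (hσ : σ ∈ M24) (hτ : τ ∈ M24)
    (k : GolayPt) (hk : kap k = 0) :
    (((PP σ hσ * xiEl * (PP τ hτ)⁻¹) • e8 (τ k) : ↥leechLattice) : GolayPt → ℤ) =
      wvF (σ • tetU {0}) (σ k) := by
  have e1 : (PP τ hτ)⁻¹ • e8 (τ k) = e8 k := by
    rw [inv_smul_eq_iff, PP_smul_e8]
  rw [mul_smul, mul_smul, e1]
  funext i
  rw [PP_smul_apply, xiEl_smul_e8 k hk]
  unfold wvF
  have e3 : i ∈ σ • tetU {0} ↔ σ⁻¹ i ∈ tetU {0} := mem_smul_iff σ _ i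
  have e2 : σ⁻¹ i = k ↔ i = σ k := by
    constructor
    · intro h; rw [← h]; simp
    · intro h; rw [h]; simp
  by_cases h : i = σ k
  · rw [if_pos h, if_pos (e2.mpr h)]
  · rw [if_neg h, if_neg (fun h' => h (e2.mp h'))]
    by_cases h3 : σ⁻¹ i ∈ tetU {0}
    · rw [if_pos h3, if_pos (e3.mpr h3)]
    · rw [if_neg h3, if_neg (fun h' => h3 (e3.mp h'))]

end Cfsg.Agent.Helper9.Co1Z
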