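import Mathlib
import Cfsg.Agent.Helper9.Co1Z.Ord2
import Cfsg.Agent.Helper9.Golay.SetTrans

/-!
Permutations in the group of the code carrying the first two parts of the partition onto the
standard octad, with the first part carried onto a prescribed set of four points of the octad.
-/

set_option autoImplicit false

namespace Cfsg.Agent.Helper9.Co1Z

open Cfsg
open Cfsg.Agent.Helper9.Golay Cfsg.Agent.Helper9.Leech Cfsg.Agent.Helper9.Leech.Mono
open scoped Pointwise

theorem tet0_eq : tetU {0} = {idxPtN 0, idxPtN 1, idxPtN 2, idxPtN 23} := by decide +kernel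

theorem five_sub : insert (idxPtN 3) (tetU {0}) ⊆ tetU {0, 1} := by decide +kernel

theorem five_card : (insert (idxPtN 3) (tetU {0})).card = 5 := by decide +kernel

theorem tetU01_octad : tetU {0, 1} ∈ octads := ⟨tetU01_mem, by decide +kernel⟩

theorem kap_idx0 : kap (idxPtN 0) = 0 := by decide +kernel

theorem exists_perm (T : Finset GolayPt) (hT : T ⊆ suppM 5279) (h4 : T.card = 4) (j : GolayPt)
    (hj : j ∈ T) :
    ∃ σ ∈ M24, σ • tetU {0, 1} = suppM 5279 ∧ σ • tetU {0} = T ∧ σ (idxPtN 0) = j := by
  classical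
  have hne : (suppM 5279 \ T).Nonempty := by
    rw [← Finset.card_pos, Finset.card_sdiff_of_subset hT, card_oct0, h4]
    norm_num
  obtain ⟨e, he⟩ := hne
  obtain ⟨heO, heT⟩ := Finset.mem_sdiff.mp he
  have h3 : (T.erase j).toList.length = 3 := by
    rw [Finset.length_toList, Finset.card_erase_of_mem hj, h4]
  obtain ⟨t1, t2, t3, hL⟩ := List.length_eq_three.mp h3
  have hmem : ∀ p, p ∈ T.erase j ↔ p = t1 ∨ p = t2 ∨ p = t3 := by
    intro p
    rw [← Finset.mem_toList, hL]
    simp
  have hTeq : T = {j, t1, t2, t3} := by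
    ext p
    simp only [Finset.mem_insert, Finset.mem_singleton]
    by_cases hpj : p = j
    · simp [hpj, hj]
    · rw [← hmem p, Finset.mem_erase]
      simp [hpj]
  have hnd' : (e :: j :: (T.erase j).toList).Nodup := by
    refine List.nodup_cons.mpr ⟨?_, List.nodup_cons.mpr ⟨?_, Finset.nodup_toList _⟩⟩
    · rw [List.mem_cons, Finset.mem_toList]
      rintro (h | h)
      · exact heT (h ▸ hj)
      · exact heT (Finset.mem_of_mem_erase h)
    · rw [Finset.mem_toList]
      exact Finset.notMem_erase j T
  obtain ⟨σ, hσ, hmap⟩ := m24_map_list [idxPtN 3, idxPtN 0, idxPtN 1, idxPtN 2, idxPtN 23]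
    (e :: j :: (T.erase j).toList) (by decide +kernel) hnd'
    (by simp only [List.length_cons, List.length_nil, h3]) (by norm_num)
  rw [hL] at hmap
  simp only [List.map_cons, List.map_nil, List.cons.injEq, and_true] at hmap
  obtain ⟨m4, m0, m1, m2, m3⟩ := hmap
  have hT0 : σ • tetU {0} = T := by
    rw [tet0_eq, hTeq]
    simp only [Finset.smul_finset_insert, Finset.smul_finset_singleton, Equiv.Perm.smul_def,
      m0, m1, m2, m3]
  refine ⟨σ, hσ, ?_, hT0, m0⟩
  have hoct : σ • tetU {0, 1} ∈ octads := smul_mem_wordsOfWeight hσ tetU01_octad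
  apply octads_unique hoct oct5279_mem (σ • insert (idxPtN 3) (tetU {0}))
  · rw [card_smul_finset, five_card]
  · exact Finset.smul_finset_subset_smul_finset five_sub
  · rw [Finset.smul_finset_insert, hT0, Equiv.Perm.smul_def, m4]
    exact Finset.insert_subset heO hT

end Cfsg.Agent.Helper9.Co1Z
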