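import Mathlib
import Cfsg.Agent.Helper9.Co1Z.Trans

/-!
A lower bound for the order of the centralizer of the sign change on the standard octad, from the
orbits of a coordinate vector under the centralizer and under its monomial part.
-/

set_option autoImplicit false

namespace Cfsg.Agent.Helper9.Co1Z

open Cfsg
open Cfsg.Agent.Helper9.Golay Cfsg.Agent.Helper9.Leech Cfsg.Agent.Helper9.Leech.Mono
open scoped Pointwise

/-- orbit and stabilizer for a subgroup. -/
theorem card_eq_orbit_mul (S : Subgroup ↥Co0) (v : ↥leechLattice) :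
    Nat.card ↥S = (MulAction.orbit ↥S v).ncard * Nat.card ↥(MulAction.stabilizer ↥S v) := by
  rw [← MulAction.index_stabilizer, Subgroup.index_mul_card]

theorem orbit_NO_le : (MulAction.orbit ↥NO (e8 (idxPtN 0))).ncard ≤ 16 := by
  classical
  have hsub : MulAction.orbit ↥NO (e8 (idxPtN 0)) ⊆
      ↑((suppM 5279).image e8 ∪ (suppM 5279).image (fun j => -e8 j)) := by
    rintro x ⟨⟨g, hg⟩, rfl⟩
    obtain ⟨hg1, hg2⟩ := Subgroup.mem_inf.mp hg
    obtain ⟨σ, hσ, c, hc, rfl⟩ := exists_monoEl_of_mem_NN g hg2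
    have h3 := (monoEl_mem_Ct_iff σ hσ c hc).mp hg1
    have h4 : σ (idxPtN 0) ∈ suppM 5279 := by
      have h5 : σ • idxPtN 0 ∈ σ • suppM 5279 := Finset.smul_mem_smul_finset oct0_nonempty
      rw [h3] at h5
      exact h5
    change monoEl σ hσ c hc • e8 (idxPtN 0) ∈ _
    rw [monoEl_smul_e8', Finset.coe_union, Finset.coe_image, Finset.coe_image]
    split_ifs
    · right; exact ⟨_, h4, rfl⟩
    · left; exact ⟨_, h4, rfl⟩
  calc (MulAction.orbit ↥NO (e8 (idxPtN 0))).ncard
      ≤ (↑((suppM 5279).image e8 ∪ (suppM 5279).image (fun j => -e8 j)) :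
          Set ↥leechLattice).ncard := Set.ncard_le_ncard hsub (Finset.finite_toSet _)
    _ = ((suppM 5279).image e8 ∪ (suppM 5279).image (fun j => -e8 j)).card :=
        Set.ncard_coe_finset _
    _ ≤ 8 + 8 := (Finset.card_union_le _ _).trans
        (add_le_add (Finset.card_image_le.trans_eq card_oct0)
          (Finset.card_image_le.trans_eq card_oct0))

theorem wvF_self (T : Finset GolayPt) (j : GolayPt) : wvF T j j = 4 := by
  unfold wvF
  rw [if_pos rfl]

theorem mem_iff_wvF {T : Finset GolayPt} {j : GolayPt} (hj : j ∈ T) (p : GolayPt) :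
    p ∈ T ↔ wvF T j p ≠ 0 := by
  unfold wvF
  by_cases hp : p = j
  · rw [if_pos hp, hp]
    exact ⟨fun _ => by norm_num, fun _ => hj⟩
  · rw [if_neg hp]
    by_cases hpT : p ∈ T
    · rw [if_pos hpT]
      exact ⟨fun _ => by norm_num, fun _ => hpT⟩
    · rw [if_neg hpT]
      exact ⟨fun h => absurd h hpT, fun h => absurd rfl h⟩

theorem wvF_inj {T T' : Finset GolayPt} {j j' : GolayPt} (hj : j ∈ T) (hj' : j' ∈ T')
    (h : wvF T j = wvF T' j') : T = T' ∧ j = j' := by
  have h1 : j = j' := by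
    by_contra hne
    have h2 := congrFun h j
    rw [wvF_self] at h2
    unfold wvF at h2
    rw [if_neg hne] at h2
    split_ifs at h2 <;> omega
  refine ⟨?_, h1⟩
  ext p
  rw [mem_iff_wvF hj p, mem_iff_wvF hj' p, h]

theorem four_sub : ({idxPtN 0, idxPtN 1, idxPtN 2, idxPtN 3} : Finset GolayPt) ⊆ suppM 5279 := by
  decide +kernel

set_option linter.constructorNameAsVariable false in
set_option maxRecDepth 100000 in
theorem orbit_Ct_ge : 280 ≤ (MulAction.orbit ↥Ct (e8 (idxPtN 0))).ncard := by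
  classical
  haveI := finite_co0'
  obtain ⟨F, hF⟩ : ∃ F : Finset (GolayPt → ℤ), F =
      ((Finset.sigma ((suppM 5279).powersetCard 4) (fun T => T) :
        Finset (Σ _ : Finset GolayPt, GolayPt))).image (fun p => wvF p.1 p.2) := ⟨_, rfl⟩
  have hFcard : F.card = 280 := by
    rw [hF, Finset.card_image_of_injOn, Finset.card_sigma]
    · rw [Finset.sum_congr rfl (fun T hT => (Finset.mem_powersetCard.mp hT).2), Finset.sum_const,
        Finset.card_powersetCard, card_oct0]
      decide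
    · rintro ⟨T, j⟩ hp ⟨T', j'⟩ hp' h
      rw [Finset.mem_coe, Finset.mem_sigma] at hp hp'
      obtain ⟨h1, h2⟩ := wvF_inj hp.2 hp'.2 h
      dsimp only at h1 h2
      subst h1
      subst h2
      rfl
  obtain ⟨τ, hτ, hτ1, -, hτ3⟩ := exists_perm {idxPtN 0, idxPtN 1, idxPtN 2, idxPtN 3} four_sub
    (by decide +kernel) (idxPtN 0) (by simp)
  have hsub : (↑F : Set (GolayPt → ℤ)) ⊆
      Subtype.val '' (MulAction.orbit ↥Ct (e8 (idxPtN 0))) := by
    intro f hf
    rw [Finset.mem_coe, hF, Finset.mem_image] at hf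
    obtain ⟨⟨T, j⟩, hp, rfl⟩ := hf
    rw [Finset.mem_sigma, Finset.mem_powersetCard] at hp
    obtain ⟨⟨hTO, hT4⟩, hjT⟩ := hp
    obtain ⟨σ, hσ, hσ1, hσ2, hσ3⟩ := exists_perm T hTO hT4 j hjT
    refine ⟨(⟨PP σ hσ * xiEl * (PP τ hτ)⁻¹, xi_conj_mem_Ct σ τ hσ hτ hσ1 hτ1⟩ : ↥Ct) •
      e8 (idxPtN 0), ⟨_, rfl⟩, ?_⟩
    have h := xi_conj_smul σ τ hσ hτ (idxPtN 0) kap_idx0
    rw [hτ3, hσ2, hσ3] at h
    exact h
  calc 280 = F.card := hFcard.symm
    _ = (↑F : Set (GolayPt → ℤ)).ncard := (Set.ncard_coe_finset F).symm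
    _ ≤ (Subtype.val '' (MulAction.orbit ↥Ct (e8 (idxPtN 0)))).ncard :=
        Set.ncard_le_ncard hsub (Set.Finite.image _ (Set.finite_range _))
    _ = (MulAction.orbit ↥Ct (e8 (idxPtN 0))).ncard :=
        Set.ncard_image_of_injective _ Subtype.val_injective

/-- the lower bound for the order of the centralizer. -/
theorem card_Ct_ge : 280 * 1321205760 ≤ 16 * Nat.card ↥Ct := by
  have hfin := finite_co0'
  have h1 := card_eq_orbit_mul Ct (e8 (idxPtN 0))
  have h2 := card_eq_orbit_mul NO (e8 (idxPtN 0))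
  have h3 : Nat.card ↥(MulAction.stabilizer ↥NO (e8 (idxPtN 0))) ≤
      Nat.card ↥(MulAction.stabilizer ↥Ct (e8 (idxPtN 0))) := by
    apply Nat.card_le_card_of_injective
      (fun g => (⟨⟨g.1.1, NO_le g.1.2⟩, g.2⟩ : ↥(MulAction.stabilizer ↥Ct (e8 (idxPtN 0)))))
    intro a b hab
    apply Subtype.ext
    apply Subtype.ext
    exact congrArg (fun x : ↥(MulAction.stabilizer ↥Ct (e8 (idxPtN 0))) => x.1.1) hab
  have h4 := orbit_NO_le
  have h5 := orbit_Ct_ge
  rw [← card_NO, h1, h2]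
  calc 280 * ((MulAction.orbit ↥NO (e8 (idxPtN 0))).ncard *
        Nat.card ↥(MulAction.stabilizer ↥NO (e8 (idxPtN 0))))
      ≤ 280 * (16 * Nat.card ↥(MulAction.stabilizer ↥Ct (e8 (idxPtN 0)))) :=
        Nat.mul_le_mul_left _ (Nat.mul_le_mul h4 h3)
    _ = 16 * (280 * Nat.card ↥(MulAction.stabilizer ↥Ct (e8 (idxPtN 0)))) := by ring
    _ ≤ 16 * ((MulAction.orbit ↥Ct (e8 (idxPtN 0))).ncard *
        Nat.card ↥(MulAction.stabilizer ↥Ct (e8 (idxPtN 0)))) :=
        Nat.mul_le_mul_left _ (Nat.mul_le_mul_right _ h5)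

/-- the arithmetic behind the identification of the quotient. -/
theorem num_core (c n : ℕ) (h1 : 1321205760 ∣ c) (h2 : c ∣ 8315553613086720000)
    (h3 : 280 * 1321205760 ≤ 16 * c) (hn : n ∣ 348364800) (hc : 512 * n * 2 = c) :
    348364800 ≤ 11 * n ∧ n ≠ 348364800 := by
  obtain ⟨m, rfl⟩ := h1
  have hn' : n = 1290240 * m := by omega
  subst hn'
  have hm1 : m ∣ 270 := by
    have : 1290240 * m ∣ 1290240 * 270 := by
      norm_num
      exact hn
    exact Nat.dvd_of_mul_dvd_mul_left (by norm_num) this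
  have hm2 : m ∣ 6293912625 := by
    have : 1321205760 * m ∣ 1321205760 * 6293912625 := by
      norm_num
      exact h2
    exact Nat.dvd_of_mul_dvd_mul_left (by norm_num) this
  have hm3 : 18 ≤ m := by omega
  have hm4 : m ≤ 270 := Nat.le_of_dvd (by norm_num) hm1
  have hm5 : m ∣ 135 := by
    have := Nat.dvd_gcd hm1 hm2
    have e : Nat.gcd 270 6293912625 = 135 := by norm_num
    rwa [e] at this
  have hm6 : m ≤ 135 := Nat.le_of_dvd (by norm_num) hm5
  have hm7 : 27 ≤ m := by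
    rcases Nat.lt_or_ge m 27 with hlt | hge
    · interval_cases m <;> omega
    · exact hge
  constructor <;> omega

end Cfsg.Agent.Helper9.Co1Z
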