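import Mathlib
import Cfsg.Prelude.Def_Classical
import Cfsg.Agent.Helper8.POmegaCard
import Cfsg.Agent.Helper8.StdForms
import Cfsg.Agent.Helper8.OmegaSimple
import Cfsg.Agent.S0287

/-!
The orthogonal group of plus type of dimension 8 over the field with two elements: order, index of
the commutator subgroup, simplicity of the commutator subgroup.
-/

set_option autoImplicit false

namespace Cfsg.Agent.Helper9.Co1Z

open Cfsg Module Cfsg.Agent.Helper8.StdForms

theorem quadFormPlus_eq : Cfsg.quadFormPlus 4 (ZMod 2) = ⇑(plusForm (ZMod 2) 4) :=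
  funext (fun v => (plusForm_apply (ZMod 2) 4 v).symm)

theorem card_fin4 : Fintype.card (Fin 4 ⊕ Fin 4) = 8 := by
  rw [Fintype.card_sum, Fintype.card_fin]

theorem card_O8 :
    Nat.card ↥(isometryGroup (ZMod 2) (quadFormPlus 4 (ZMod 2))) = 348364800 := by
  have h := Cfsg.Agent.S0287.result (F := ZMod 2) (q := 2) (ZMod.card 2) 4 (by norm_num)
  rw [h]
  decide

theorem two_eq_zero' : (2 : ZMod 2) = 0 := by decide

theorem index_Omega8 : (Omega (ZMod 2) (quadFormPlus 4 (ZMod 2))).index = 2 := by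
  rw [quadFormPlus_eq]
  exact (Cfsg.Agent.Helper8.OmegaEven.commutator_eq (plusForm (ZMod 2) 4) two_eq_zero'
    (plusForm_nondeg (ZMod 2) 4) (by rw [card_fin4]; norm_num)
    (Or.inr (by rw [card_fin4]; norm_num))).1

theorem card_Omega8 : Nat.card ↥(Omega (ZMod 2) (quadFormPlus 4 (ZMod 2))) = 174182400 := by
  have h1 := Subgroup.card_mul_index (Omega (ZMod 2) (quadFormPlus 4 (ZMod 2)))
  rw [index_Omega8, card_O8] at h1
  omega

theorem simple_Omega8 : IsSimpleGroup ↥(Omega (ZMod 2) (quadFormPlus 4 (ZMod 2))) := by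
  rw [quadFormPlus_eq]
  have hs : IsSimpleGroup (Cfsg.POmega (ZMod 2) ⇑(plusForm (ZMod 2) 4)) :=
    Cfsg.Agent.Helper8.OmegaSimple.isSimpleGroup_POmega (plusForm (ZMod 2) 4)
      (plusForm_nondeg (ZMod 2) 4) (by rw [card_fin4]; norm_num)
  have hcen : Subgroup.center ↥(Omega (ZMod 2) ⇑(plusForm (ZMod 2) 4)) = ⊥ :=
    Cfsg.Agent.Helper8.CenterChar2.center_omega_eq_bot (plusForm (ZMod 2) 4) two_eq_zero'
      (plusForm_nondeg (ZMod 2) 4) (by rw [card_fin4]; norm_num)
      (Or.inr (by rw [card_fin4]; norm_num))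
  let e : Cfsg.POmega (ZMod 2) ⇑(plusForm (ZMod 2) 4) ≃*
      ↥(Omega (ZMod 2) ⇑(plusForm (ZMod 2) 4)) :=
    (QuotientGroup.quotientMulEquivOfEq hcen).trans QuotientGroup.quotientBot
  exact e.symm.isSimpleGroup

end Cfsg.Agent.Helper9.Co1Z
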