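import Mathlib
import Cfsg.Agent.Helper9.Co1Z.Abs

/-!
The large extraspecial setting of plus type from data given element by element.
-/

set_option autoImplicit false

namespace Cfsg.Agent.Helper9.Co1Z

open Cfsg

/-- The element-wise data: `R` is an extraspecial subgroup of order `2 ^ (2 w + 1)` with centre
generated by the involution `z`, normalized by the centralizer of `z` and containing every
element commuting with it only in its centre. -/
structure ES {H : Type*} [Group H] (z : H) (R : Subgroup H) (w : ℕ) : Prop where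
  z_ord : orderOf z = 2
  z_mem : z ∈ R
  R_comm : ∀ r ∈ R, r * z = z * r
  comm : ∀ a ∈ R, ∀ b ∈ R, a * b * a⁻¹ * b⁻¹ = 1 ∨ a * b * a⁻¹ * b⁻¹ = z
  sq : ∀ a ∈ R, a * a = 1 ∨ a * a = z
  strongC : ∀ c : H, (∀ r ∈ R, c * r = r * c) → c = 1 ∨ c = z
  card : Nat.card R = 2 ^ (2 * w + 1)
  norm : ∀ c : H, c * z = z * c → ∀ r ∈ R, c * r * c⁻¹ ∈ R
  nwc : ∃ g : H, g * z * g⁻¹ ∈ R ∧ g * z * g⁻¹ ≠ z

variable {H : Type*} [Group H] {z : H} {R : Subgroup H} {w : ℕ}

theorem ES.z_ne (b : ES z R w) : z ≠ 1 := by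
  intro h
  have := b.z_ord
  rw [h, orderOf_one] at this
  omega

theorem ES.z_sq (b : ES z R w) : z * z = 1 := by
  have := pow_orderOf_eq_one z
  rw [b.z_ord, pow_two] at this
  exact this

set_option maxHeartbeats 1000000 in
/-- The large extraspecial setting of plus type from the element-wise data. -/
theorem ES.main [Finite H] (b : ES z R w) (hw : 1 ≤ w)
    (A : Subgroup H) (hAR : A ≤ R) (hAc : ∀ a ∈ A, ∀ b ∈ A, a * b = b * a)
    (hA2 : ∀ a ∈ A, a * a = 1) (hAcard : Nat.card A = 2 ^ (w + 1))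
    (hΩs : IsSimpleGroup ↥(Omega (ZMod 2) (quadFormPlus w (ZMod 2))))
    (hΩc : ¬ (Nat.card ↥(Omega (ZMod 2) (quadFormPlus w (ZMod 2)))).Prime)
    (hidx : (Omega (ZMod 2) (quadFormPlus w (ZMod 2))).index = 2)
    (k : ℕ) (hk : k.factorial < Nat.card ↥(Omega (ZMod 2) (quadFormPlus w (ZMod 2))))
    (hnum : ∀ n : ℕ, n ∣ Nat.card ↥(isometryGroup (ZMod 2) (quadFormPlus w (ZMod 2))) →
      Nat.card ↥(Subgroup.centralizer ({z} : Set H)) = 2 ^ (2 * w + 1) * n →
      Nat.card ↥(isometryGroup (ZMod 2) (quadFormPlus w (ZMod 2))) ≤ k * n ∧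
        n ≠ Nat.card ↥(isometryGroup (ZMod 2) (quadFormPlus w (ZMod 2)))) :
    ∃ z' : H, orderOf z' = 2 ∧ ∃ (Q : Subgroup (Subgroup.centralizer ({z'} : Set H)))
      (_ : Q.Normal), generalizedFittingSubgroup (Subgroup.centralizer ({z'} : Set H)) = Q ∧
      IsExtraspecial 2 Q ∧ Nat.card Q = 2 ^ (2 * w + 1) ∧
      Nonempty ((Subgroup.centralizer ({z'} : Set H)) ⧸ Q ≃*
        Omega (ZMod 2) (quadFormPlus w (ZMod 2))) ∧
      ∃ g : H, (∃ hq : g * z' * g⁻¹ ∈ Subgroup.centralizer ({z'} : Set H),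
        (⟨g * z' * g⁻¹, hq⟩ : Subgroup.centralizer ({z'} : Set H)) ∈ Q) ∧ g * z' * g⁻¹ ≠ z' := by
  classical
  have memC : ∀ x : H, x ∈ Subgroup.centralizer ({z} : Set H) ↔ x * z = z * x :=
    fun x => Subgroup.mem_centralizer_singleton_iff
  have hRC : R ≤ Subgroup.centralizer ({z} : Set H) := fun r hr => (memC r).mpr (b.R_comm r hr)
  have memQ : ∀ x : ↥(Subgroup.centralizer ({z} : Set H)),
      x ∈ R.subgroupOf (Subgroup.centralizer ({z} : Set H)) ↔ (x : H) ∈ R :=
    fun x => Subgroup.mem_subgroupOf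
  have hQn : (R.subgroupOf (Subgroup.centralizer ({z} : Set H))).Normal := by
    constructor
    intro n hn g
    rw [memQ] at hn ⊢
    have := b.norm (g : H) ((memC _).mp g.2) _ hn
    simpa using this
  have hzC : z ∈ Subgroup.centralizer ({z} : Set H) := (memC z).mpr rfl
  have hcardQ : Nat.card ↥(R.subgroupOf (Subgroup.centralizer ({z} : Set H))) =
      2 ^ (2 * w + 1) := by
    rw [Nat.card_congr (Subgroup.subgroupOfEquivOfLe hRC).toEquiv, b.card]
  have hAC : A ≤ Subgroup.centralizer ({z} : Set H) := hAR.trans hRC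
  obtain ⟨h1, h2, h3⟩ := core (R.subgroupOf (Subgroup.centralizer ({z} : Set H))) w hw
    (⟨z, hzC⟩ : ↥(Subgroup.centralizer ({z} : Set H)))
    (Subtype.ext b.z_sq) (fun h => b.z_ne (congrArg Subtype.val h)) ((memQ _).mpr b.z_mem)
    (fun r hr => Subtype.ext (b.R_comm _ ((memQ _).mp hr)).symm)
    (fun a ha hab => by
      have h4 := b.strongC (a : H) (fun r hr => by
        have := hab ⟨r, hRC hr⟩ ((memQ _).mpr hr)
        exact congrArg Subtype.val this)
      rcases h4 with h4 | h4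
      · left; exact Subtype.ext h4
      · right; exact Subtype.ext h4)
    (fun a ha c hc => by
      rcases b.comm _ ((memQ _).mp ha) _ ((memQ _).mp hc) with h4 | h4
      · left; apply Subtype.ext; simpa using h4
      · right; apply Subtype.ext; simpa using h4)
    (fun a ha => by
      rcases b.sq _ ((memQ _).mp ha) with h4 | h4
      · left; apply Subtype.ext; simpa using h4
      · right; apply Subtype.ext; simpa using h4)
    hcardQ
    (fun c hc => by
      rw [memQ]
      have h4 := b.strongC (c : H) (fun r hr => by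
        have := hc ⟨r, hRC hr⟩ ((memQ _).mpr hr)
        exact congrArg Subtype.val this)
      rcases h4 with h4 | h4
      · rw [h4]; exact R.one_mem
      · rw [h4]; exact b.z_mem)
    (A.subgroupOf (Subgroup.centralizer ({z} : Set H)))
    (fun a ha => (memQ _).mpr (hAR (Subgroup.mem_subgroupOf.mp ha)))
    (fun a ha c hc => Subtype.ext
      (hAc _ (Subgroup.mem_subgroupOf.mp ha) _ (Subgroup.mem_subgroupOf.mp hc)))
    (fun a ha => Subtype.ext (hA2 _ (Subgroup.mem_subgroupOf.mp ha)))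
    (by rw [Nat.card_congr (Subgroup.subgroupOfEquivOfLe hAC).toEquiv, hAcard])
    hΩs hΩc hidx k hk hnum
  refine ⟨z, b.z_ord, R.subgroupOf (Subgroup.centralizer ({z} : Set H)), hQn, h1, h2, hcardQ,
    h3, ?_⟩
  obtain ⟨g, hg, hgz⟩ := b.nwc
  exact ⟨g, ⟨hRC hg, (memQ _).mpr hg⟩, hgz⟩

end Cfsg.Agent.Helper9.Co1Z
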