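import Mathlib
import Cfsg.Agent.Helper9.Co1Z.Count
import Cfsg.Agent.Helper9.Co1Z.Setting
import Cfsg.Agent.Helper9.Co1Z.Orth

/-!
The centralizer of a central involution of the quotient of the automorphism group of the lattice
by its centre: the large extraspecial setting of plus type in dimension 8.
-/

set_option autoImplicit false

namespace Cfsg.Agent.Helper9.Co1Z

open Cfsg
open Cfsg.Agent.Helper9.Golay Cfsg.Agent.Helper9.Leech Cfsg.Agent.Helper9.Leech.Mono
open scoped Pointwise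

theorem finite_co1' : Finite Spor.Co1 := by
  haveI := finite_co0'
  exact Finite.of_surjective proj0 proj0_surj

theorem es_RR : ES zz RR 4 where
  z_ord := zz_ord
  z_mem := zz_mem
  R_comm := RR_comm
  comm := RR_commutator
  sq := RR_sq
  strongC := RR_strongC
  card := card_RR
  norm := RR_norm
  nwc := RR_nwc

theorem hnum_co1 : ∀ n : ℕ, n ∣ Nat.card ↥(isometryGroup (ZMod 2) (quadFormPlus 4 (ZMod 2))) →
    Nat.card ↥(Subgroup.centralizer ({zz} : Set Spor.Co1)) = 2 ^ (2 * 4 + 1) * n →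
    Nat.card ↥(isometryGroup (ZMod 2) (quadFormPlus 4 (ZMod 2))) ≤ 11 * n ∧
      n ≠ Nat.card ↥(isometryGroup (ZMod 2) (quadFormPlus 4 (ZMod 2))) := by
  intro n hn hc
  rw [card_O8] at hn ⊢
  have h1 := card_centralizer_zz
  rw [hc] at h1
  exact num_core (Nat.card ↥Ct) n card_NO_dvd card_Ct_dvd card_Ct_ge hn (by rw [← h1]; norm_num)

theorem not_prime_Omega8 :
    ¬ (Nat.card ↥(Omega (ZMod 2) (quadFormPlus 4 (ZMod 2)))).Prime := by
  rw [card_Omega8]
  norm_num

theorem main_co1 : ∃ z : Cfsg.Spor.Co1, orderOf z = 2 ∧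
    ∃ (Q : Subgroup (Subgroup.centralizer ({z} : Set Cfsg.Spor.Co1))) (_ : Q.Normal),
      Cfsg.generalizedFittingSubgroup (Subgroup.centralizer ({z} : Set Cfsg.Spor.Co1)) = Q ∧
      Cfsg.IsExtraspecial 2 Q ∧ Nat.card Q = 2 ^ 9 ∧
      Nonempty ((Subgroup.centralizer ({z} : Set Cfsg.Spor.Co1)) ⧸ Q ≃*
        Cfsg.Omega (ZMod 2) (Cfsg.quadFormPlus 4 (ZMod 2))) ∧
      ∃ g : Cfsg.Spor.Co1, (∃ hq : g * z * g⁻¹ ∈ Subgroup.centralizer ({z} : Set Cfsg.Spor.Co1),
        (⟨g * z * g⁻¹, hq⟩ : Subgroup.centralizer ({z} : Set Cfsg.Spor.Co1)) ∈ Q) ∧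
        g * z * g⁻¹ ≠ z := by
  haveI := finite_co1'
  have h := ES.main es_RR (by norm_num) AA AA_le AA_comm AA_sq card_AA simple_Omega8
    not_prime_Omega8 index_Omega8 11 (by rw [card_Omega8]; decide) hnum_co1
  exact h

end Cfsg.Agent.Helper9.Co1Z
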